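import Cfsg.Agent.Lib.FT.BG16.TypeSets
import Cfsg.Agent.Lib.FT.BG15.Discharge
import Cfsg.Agent.Lib.FT.Stmts

/-!
The statements of sections 15 and 16 that speak of the types, as the later sections use them.
-/

set_option autoImplicit false

universe u

open Cfsg

namespace CfsgLib.FT.BG16

theorem stmtS1380 : StmtS1380.{u} := fun {_} _ _ hG _ hM _ _ hD =>
  isOfTypeI_iff BG15.upstream hG hM hD

theorem stmtS1385 : StmtS1385.{u} := fun {_} _ _ hG => type_alternative BG15.upstream hG

theorem stmtS1390 : StmtS1390.{u} := fun {_} _ _ hG _ hM _ h =>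
  compl_facts BG15.upstream hG hM h

theorem stmtS1391 : StmtS1391.{u} := by
  intro G _ _ hG M hM X hX
  have hsub : X ⊆ FT.typeA0 M := by
    rcases hX with rfl | rfl
    exacts [Set.subset_union_left, subset_rfl]
  exact ⟨fun x hx g hgx => fusion_typeA0 BG15.upstream hG hM (hsub hx) (hsub hgx),
    fun x hx hxM => exists_unique_support BG15.upstream hG hM (hsub hx) hxM,
    fun x hx hxM L hL hxL => support_typeA0 BG15.upstream hG hM hsub hx hxM hL hxL⟩

end CfsgLib.FT.BG16
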