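import Cfsg.Agent.Lib.FT.BG15.Signalizer
import Cfsg.Agent.Lib.FT.BG15.FCore

/-!
BG section 16: the sets `A(M)`, `A₀(M)` and `Ẑ`.
-/

set_option autoImplicit false
set_option linter.style.haveILetI false

universe u

open Cfsg CfsgLib.OddOrder CfsgLib.Techniques Subgroup
open CfsgLib.FT.BG15

namespace CfsgLib.FT.BG16

variable {G : Type u} [Group G]

/-- `K K* - (K ∪ K*)`. -/
def zHat (M K : Subgroup G) : Set G :=
  (↑(K ⊔ (sigmaCore M ⊓ centralizer (K : Set G))) : Set G) \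
    ((K : Set G) ∪ ↑(sigmaCore M ⊓ centralizer (K : Set G)))

variable [Finite G]
variable (hU : BG15.Upstream.{u}) (hG : IsMinSimpleOddOrder G) {M : Subgroup G} (hM : IsCoatom M)
variable {K U : Subgroup G}

/-! ### Regular elements of `U` -/

include hU hG hM in
/-- If `κ(M)` is empty the `τ₁ ∪ τ₃`-elements act regularly on `M_σ`. -/
theorem regular_of_tau13 (hκ : ∀ q, q ∉ kappa M) {E : Subgroup G}
    (hE : IsComplIn E (sigmaCore M) M) {e : G} (he : e ∈ E) (he1 : e ≠ 1)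
    (hτ : ∀ q : ℕ, q.Prime → q ∣ orderOf e → q ∈ tau1 M ∪ tau3 M) :
    sigmaCore M ⊓ centralizer ({e} : Set G) = ⊥ := by
  by_contra hne'
  obtain ⟨⟨y, hy⟩, hy1⟩ := ne_bot_iff_exists_ne_one.1 hne'
  obtain ⟨q, hq, hqd⟩ := Nat.exists_prime_and_dvd fun h => he1 (orderOf_eq_one_iff.1 h)
  rcases hU.s1432 hG M hM y (mem_inf.1 hy).1 (fun e => hy1 (Subtype.ext e)) e
    (mem_inf.2 ⟨hE.1 he, mem_centralizer_singleton_iff.2
      (mem_centralizer_singleton_iff.1 (mem_inf.1 hy).2).symm⟩) he1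
    (fun s hs hd => (BG13.tau13_iff.2 (hτ s hs hd)).2.1) with ⟨h1, -⟩ | ⟨h1, -⟩
  · exact hκ q (h1 q hq hqd)
  · exact (h1 q hq hqd).2.2.2 (BG13.tau13_iff.2 (hτ q hq hqd)).2.2.2

omit [Finite G] in
theorem inf_centralizer_eq_bot_of_mem_zpowers {S : Subgroup G} {a b : G} (h : b ∈ zpowers a)
    (hb : S ⊓ centralizer ({b} : Set G) = ⊥) : S ⊓ centralizer ({a} : Set G) = ⊥ :=
  le_bot_iff.1 ((inf_le_inf_left S (centralizer_singleton_le_of_mem_zpowers h)).trans hb.le)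

include hU hG hM in
/-- A regular element of `U` of every order dividing the exponent. -/
theorem exists_regular_element (hD : IsSigmaDecomposition M K U) (hK1 : K ≠ ⊥) {m : ℕ}
    (hm : m ∣ Monoid.exponent U) :
    ∃ a ∈ U, orderOf a = m ∧ ∀ i : ℕ, a ^ i ≠ 1 → sigmaCore M ⊓ centralizer ({a ^ i} : Set G) = ⊥ := by
  induction m using Nat.recOnPrimeCoprime with
  | zero => exact absurd (zero_dvd_iff.1 hm) Monoid.exponent_ne_zero_of_finite
  | prime_pow p n hp =>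
    rcases Nat.eq_zero_or_pos n with rfl | hn
    · exact ⟨1, one_mem _, by simp, fun i hi => absurd (one_pow i) hi⟩
    haveI := Fact.mk hp
    obtain ⟨a, ha, hao, hreg⟩ := exists_regular_prime_power hU hG hM hD hK1 hn hm
    refine ⟨a, ha, hao, fun i hi => ?_⟩
    obtain ⟨j, hj, hji⟩ := (Nat.dvd_prime_pow hp).1 (hao ▸ orderOf_pow_dvd i :
      orderOf (a ^ i) ∣ p ^ n)
    have hj0 : j ≠ 0 := by
      rintro rfl
      exact hi (orderOf_eq_one_iff.1 (by rw [hji, pow_zero]))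
    obtain ⟨j, rfl⟩ := Nat.exists_eq_succ_of_ne_zero hj0
    set x := (a ^ i) ^ p ^ j with hx
    have hxo : orderOf x = p := by
      rw [hx, orderOf_pow, hji, pow_succ, Nat.gcd_eq_right (dvd_mul_right _ _),
        Nat.mul_div_cancel_left _ (pow_pos hp.pos j)]
    have hxs : x ∈ zpowers (a ^ p ^ (n - 1)) := by
      have hdiv : p ^ n ∣ i * p ^ j * p := by
        rw [← hao, orderOf_dvd_iff_pow_eq_one, pow_mul, pow_mul]
        exact orderOf_dvd_iff_pow_eq_one.1 (dvd_of_eq hxo)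
      rw [← Nat.sub_add_cancel hn, pow_succ] at hdiv
      obtain ⟨t, ht⟩ := Nat.dvd_of_mul_dvd_mul_right hp.pos hdiv
      refine mem_zpowers_iff.2 ⟨t, ?_⟩
      rw [hx, zpow_natCast, ← pow_mul, ← pow_mul, ht]
    have he : zpowers x = zpowers (a ^ p ^ (n - 1)) := by
      refine eq_of_le_of_card_ge (zpowers_le.2 hxs) ?_
      rw [Nat.card_zpowers, Nat.card_zpowers, hxo, orderOf_pow, hao,
        Nat.gcd_eq_right (Nat.pow_dvd_pow p (Nat.sub_le n 1)),
        Nat.pow_div (Nat.sub_le n 1) hp.pos, Nat.sub_sub_self hn, pow_one]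
    exact inf_centralizer_eq_bot_of_mem_zpowers (pow_mem (mem_zpowers (a ^ i)) _)
      (inf_centralizer_eq_bot_of_mem_zpowers (he.symm ▸ mem_zpowers _ : a ^ p ^ (n - 1) ∈ zpowers x)
        hreg)
  | coprime a b ha hb hcop iha ihb =>
    obtain ⟨x, hx, hxo, hxr⟩ := iha ((dvd_mul_right a b).trans hm)
    obtain ⟨y, hy, hyo, hyr⟩ := ihb ((dvd_mul_left b a).trans hm)
    have hUc := U_comm hU hG hM hD hK1
    have hc : Commute x y := congrArg Subtype.val (hUc.is_comm.comm ⟨x, hx⟩ ⟨y, hy⟩)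
    refine ⟨x * y, mul_mem hx hy, ?_, fun i hi => ?_⟩
    · rw [hc.orderOf_mul_eq_mul_orderOf_of_coprime (by rw [hxo, hyo]; exact hcop), hxo, hyo]
    by_cases hxi : x ^ i = 1
    · rw [hc.mul_pow, hxi, one_mul] at hi ⊢
      exact hyr i hi
    refine inf_centralizer_eq_bot_of_mem_zpowers (b := (x ^ i) ^ b) ?_ ?_
    · refine ⟨b, ?_⟩
      show ((x * y) ^ i) ^ (b : ℤ) = (x ^ i) ^ b
      have hyb : (y ^ i) ^ b = 1 := by
        rw [← pow_mul, mul_comm, pow_mul, ← hyo, pow_orderOf_eq_one, one_pow]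
      rw [zpow_natCast, hc.mul_pow, (hc.pow_pow i i).mul_pow, hyb, mul_one]
    · rw [← pow_mul]
      refine hxr _ fun e => hxi (orderOf_dvd_iff_pow_eq_one.1 ?_)
      have h := orderOf_dvd_of_pow_eq_one e
      rw [hxo] at h ⊢
      exact hcop.dvd_of_dvd_mul_right h

include hU hG hM in
/-- BG 15.1 (b). -/
theorem exists_regular_subgroup (hD : IsSigmaDecomposition M K U) :
    ∃ U₀ : Subgroup G, U₀ ≤ U ∧ Monoid.exponent U₀ = Monoid.exponent U ∧
      ∀ u ∈ U₀, u ≠ 1 → sigmaCore M ⊓ centralizer ({u} : Set G) = ⊥ := by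
  by_cases hK1 : K = ⊥
  · have hE := decomp_compl hU hG hM hD
    rw [hK1, bot_sup_eq] at hE
    have hκ : ∀ q, q ∉ kappa M := fun q hq => (K_ne_bot_iff hU hG hM hD.hall).2 ⟨q, hq⟩ hK1
    exact (hU.s1421 hG M hM U hE fun e he he1 hτ => regular_of_tau13 hU hG hM hκ hE he he1 hτ).2
  · obtain ⟨a, ha, hao, hreg⟩ := exists_regular_element hU hG hM hD hK1 dvd_rfl
    refine ⟨zpowers a, zpowers_le.2 ha, ?_, fun u hu hu1 => ?_⟩
    · rw [IsCyclic.exponent_eq_card, Nat.card_zpowers, hao]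
    · obtain ⟨i, rfl⟩ := mem_powers_iff_mem_zpowers.2 hu
      exact hreg i hu1

include hU hG hM in
theorem exists_regular_hat (hD : IsSigmaDecomposition M K U) :
    ∃ U₀ : Subgroup G, U₀ ≤ U ∧ Monoid.exponent U₀ = Monoid.exponent U ∧
      ∀ u ∈ U₀, u ∈ sigmaHat M → u = 1 := by
  obtain ⟨U₀, h₀, he, hreg⟩ := exists_regular_subgroup hU hG hM hD
  refine ⟨U₀, h₀, he, fun u hu ⟨_, y, hy, hy1, huy⟩ => by_contra fun hu1 => hy1 ?_⟩
  exact mem_bot.1 ((hreg u hu hu1).le (mem_inf.2 ⟨hy, mem_centralizer_singleton_iff.2 huy.symm⟩))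

include hU hG hM in
/-- BG 15.1 (e): `N(U)` is not in `M`. -/
theorem normalizer_U_not_le (hD : IsSigmaDecomposition M K U) (hK1 : K ≠ ⊥) :
    ¬ normalizer (U : Set G) ≤ M := by
  intro hle
  by_cases hU1 : U = ⊥
  · subst hU1
    refine hM.1 (top_le_iff.1 (fun g _ => hle ?_))
    refine mem_normalizer_iff.2 fun h => ?_
    simp [mul_inv_eq_one]
  obtain ⟨Ms, ⟨hMs, hst, hhall⟩, -⟩ := hU.s1366 hG M hM K U hD hK1
  obtain ⟨r, hr, hd⟩ := Nat.exists_prime_and_dvd (n := Nat.card U)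
    fun e => hU1 (eq_bot_of_card_eq U e)
  haveI := Fact.mk hr
  obtain ⟨R⟩ : Nonempty (Sylow r U) := inferInstance
  have hR := sylIn_sylow_map R
  obtain ⟨H, hH, hNH⟩ := exists_maximal_ge (minSimple_normalizer_ne_top hG (sylIn_ne_bot hR hd)
    (isPGroup_ne_top hG hR.isPGroup))
  exact (hU.s1435 hG M hM K U hD hK1 hU1 Ms hMs hst hhall r hd R H hH hNH).2.2.2.1
    (inf_le_right.trans hle)

/-! ### `A(M) - M_σ` -/

include hU hG hM in
/-- An element of `A(M) - M_σ` has its centraliser in `M`, and its fusion in that set is by `M`. -/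
theorem sigmaA_control (hD : IsSigmaDecomposition M K U) {a : G}
    (ha : a ∈ sigmaA M U \ (sigmaCore M : Set G)) :
    centralizer ({a} : Set G) ≤ M ∧
      ∀ g : G, g * a * g⁻¹ ∈ sigmaA M U \ (sigmaCore M : Set G) → g ∈ M := by
  have key : ∀ a ∈ sigmaA M U \ (sigmaCore M : Set G), ∃ b ∈ zpowers a, b ≠ 1 ∧
      ∀ p : ℕ, p.Prime → p ∣ orderOf b → p ∉ sigma M := by
    rintro a ⟨⟨⟨haM, -⟩, -⟩, haS⟩
    obtain ⟨s, b, hs, hb, hsb, hsσ, hbσ⟩ := exists_pi_split (sigma M) a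
    refine ⟨b, hb, fun e => haS ?_, hbσ⟩
    rw [e, mul_one] at hsb
    exact BG13.mem_sigmaCore_of_orderOf hU.bg13 hG hM haM (hsb ▸ hsσ)
  have uniq : ∀ a ∈ sigmaA M U \ (sigmaCore M : Set G), ∀ b ∈ zpowers a, b ≠ 1 →
      (∀ p : ℕ, p.Prime → p ∣ orderOf b → p ∉ sigma M) →
      centralizer ({b} : Set G) ≤ M ∧
        ∀ L : Subgroup G, IsCoatom L → centralizer ({b} : Set G) ≤ L → L = M := by
    rintro a ⟨⟨⟨haM, y, hy, hy1, hay⟩, haU⟩, -⟩ b hb hb1 hbσ
    have hby : b ∈ M ⊓ centralizer ({y} : Set G) := mem_inf.2 ⟨zpowers_le.2 haM hb,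
      mem_centralizer_singleton_iff.2 (mem_centralizer_singleton_iff.1
        (centralizer_singleton_le_of_mem_zpowers hb
          (mem_centralizer_singleton_iff.2 hay.symm : y ∈ centralizer ({a} : Set G)))).symm⟩
    rcases hU.s1432 hG M hM y hy hy1 b hby hb1 hbσ with ⟨h, -⟩ | ⟨-, -, h⟩
    · obtain ⟨p, hp, hd⟩ := Nat.exists_prime_and_dvd fun h => hb1 (orderOf_eq_one_iff.1 h)
      exact absurd (h p hp hd) (U_sup_sigmaCore_primes hU hG hM hD hp
        (hd.trans (Subgroup.orderOf_dvd_natCard _ (zpowers_le.2 haU hb))))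
    · exact h
  obtain ⟨b, hb, hb1, hbσ⟩ := key a ha
  obtain ⟨hC, hu⟩ := uniq a ha b hb hb1 hbσ
  refine ⟨(centralizer_singleton_le_of_mem_zpowers hb).trans hC, fun g hga => ?_⟩
  have hb' : g * b * g⁻¹ ∈ zpowers (g * a * g⁻¹) := by
    rw [← cj_zpowers]; exact conj_mem_cj.2 hb
  obtain ⟨h1, -⟩ := uniq _ hga _ hb' (fun e => hb1 (conj_eq_one_iff.1 e)) fun p hp hd =>
    hbσ p hp (by rwa [← orderOf_conj' g⁻¹ b, inv_inv])
  have hle : centralizer ({b} : Set G) ≤ cj g⁻¹ M := fun c hc => mem_cj.2 (by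
    rw [inv_inv]
    refine h1 (mem_centralizer_singleton_iff.2 ?_)
    rw [conj_mul, conj_mul, mem_centralizer_singleton_iff.1 hc])
  exact inv_mem_iff.1 (mem_maximal_of_cj_eq hG hM (hu _ (isCoatom_cj hM _) hle))

omit hU hG hM in
theorem le_normalizer_sigmaA (hD : IsSigmaDecomposition M K U) :
    M ≤ normalizer (sigmaA M U \ (sigmaCore M : Set G)) := by
  have half : ∀ m ∈ M, ∀ a ∈ sigmaA M U \ (sigmaCore M : Set G),
      m * a * m⁻¹ ∈ sigmaA M U \ (sigmaCore M : Set G) := by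
    rintro m hm a ⟨⟨⟨haM, y, hy, hy1, hay⟩, haU⟩, haS⟩
    have hn := mem_normalizer_iff.1 (le_normalizer_sigmaCore M hm)
    refine ⟨⟨⟨mul_mem (mul_mem hm haM) (inv_mem hm), m * y * m⁻¹, (hn y).1 hy,
      fun e => hy1 (conj_eq_one_iff.1 e), by rw [conj_mul, conj_mul, hay]⟩,
      (mem_normalizer_iff.1 (decomp_normal hD hm) a).1 haU⟩, fun h => haS ((hn a).2 h)⟩
  intro m hm
  refine mem_set_normalizer_iff.2 fun a => ⟨half m hm a, fun h => ?_⟩
  have h' := half m⁻¹ (inv_mem hm) _ h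
  rwa [inv_inv, ← mul_assoc, ← mul_assoc, inv_mul_cancel, one_mul, inv_mul_cancel_right] at h'

include hU hG hM in
/-- BG 16.5 (b): `A(M) - M_σ` is a TI-set. -/
theorem isTISubset_sigmaA (hD : IsSigmaDecomposition M K U) :
    IsTISubset (sigmaA M U \ (sigmaCore M : Set G)) := fun g hg a ha hga =>
  absurd (le_normalizer_sigmaA hD ((sigmaA_control hU hG hM hD ha).2 g hga)) hg

/-! ### `Ẑ` -/

include hU hG hM in
/-- The facts about `Z = K × K*` used below. -/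
theorem zGroup_facts (hD : IsSigmaDecomposition M K U) (hK1 : K ≠ ⊥) :
    IsCyclic ↥(K ⊔ cstar M K) ∧ K ⊔ cstar M K ≤ M ∧
      (∀ z ∈ zHat M K, centralizer ({z} : Set G) = K ⊔ cstar M K) ∧
      (∀ g : G, g ∉ M → ∀ z ∈ zHat M K, z ∉ cj g M) := by
  obtain ⟨Ms, ⟨hMs, hst, hhall⟩, -⟩ := hU.s1366 hG M hM K U hD hK1
  obtain ⟨-, -, hC, hout, -⟩ := hU.s1434 hG M hM K U hD hK1 Ms hMs hst hhall
  refine ⟨(hU.s1368 hG M hM K U hD hK1 Ms hMs hst hhall).2,
    sup_le hD.hall.1 ((cstar_le_sigmaCore M K).trans (sigmaCore_le M)), fun z hz => ?_, hout⟩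
  have hn : K ≤ normalizer (cstar M K : Set G) := fun k hk => centralizer_le_normalizer _
    (mem_centralizer_iff.2 fun c hc => (mem_centralizer_iff.1 (mem_inf.1 hc).2 k hk).symm)
  obtain ⟨hz1, hz2⟩ := hz
  rw [SetLike.mem_coe, CfsgLib.Coprime.mem_sup_iff_of_le_normalizer hn] at hz1
  obtain ⟨x, hx, y, hy, rfl⟩ := hz1
  refine (hC x hx (fun e => hz2 (Or.inr ?_)) y hy fun e => hz2 (Or.inl ?_)).2.2
  · rw [e, one_mul]; exact hy
  · rw [e, mul_one]; exact hx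

include hU hG hM in
/-- A `κ`-element of `K × K*` is in `K`. -/
theorem mem_K_of_pow_card (hD : IsSigmaDecomposition M K U) {a : G}
    (ha : a ∈ K ⊔ cstar M K) (hk : a ^ Nat.card K = 1) : a ∈ K := by
  have hn : K ≤ normalizer (cstar M K : Set G) := fun k hk => centralizer_le_normalizer _
    (mem_centralizer_iff.2 fun c hc => (mem_centralizer_iff.1 (mem_inf.1 hc).2 k hk).symm)
  rw [CfsgLib.Coprime.mem_sup_iff_of_le_normalizer hn] at ha
  obtain ⟨x, hx, y, hy, rfl⟩ := ha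
  have hc : Commute x y := mem_centralizer_iff.1 (mem_inf.1 hy).2 x hx
  have hxK : x ^ Nat.card K = 1 :=
    orderOf_dvd_iff_pow_eq_one.1 (Subgroup.orderOf_dvd_natCard K hx)
  rw [hc.mul_pow, hxK, one_mul] at hk
  have hy1 : y = 1 := by
    rw [← orderOf_eq_one_iff]
    refine Nat.eq_one_iff_not_exists_prime_dvd.2 fun p hp hd => ?_
    exact not_sigma_of_kappa (hD.hall.2.1 p hp (hd.trans (orderOf_dvd_of_pow_eq_one hk)))
      ((sigmaCore_hallOf hU hG hM).2.1 p hp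
        (hd.trans (Subgroup.orderOf_dvd_natCard _ (mem_inf.1 hy).1)))
  rw [hy1, mul_one]; exact hx

include hU hG hM in
theorem zHat_conj (hD : IsSigmaDecomposition M K U) (hK1 : K ≠ ⊥) {z g : G} (hz : z ∈ zHat M K)
    (hgz : g * z * g⁻¹ ∈ zHat M K) : g ∈ K ⊔ cstar M K := by
  obtain ⟨-, hZM, hC, hout⟩ := zGroup_facts hU hG hM hD hK1
  have hgM : g ∈ M := by
    by_contra h
    exact hout g⁻¹ (fun h' => h (inv_mem_iff.1 h')) z hz
      (mem_cj.2 (by rw [inv_inv]; exact hZM hgz.1))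
  have hmap : ∀ a ∈ K ⊔ cstar M K, g * a * g⁻¹ ∈ K ⊔ cstar M K := fun a ha => by
    rw [← hC z hz] at ha
    rw [← hC _ hgz]
    exact mem_centralizer_singleton_iff.2
      (by rw [conj_mul, conj_mul, mem_centralizer_singleton_iff.1 ha])
  have hgK : g ∈ normalizer (K : Set G) :=
    mem_normalizer_iff_cj.2 (eq_of_le_of_card_ge (cj_le_iff.2 fun a ha =>
      mem_K_of_pow_card hU hG hM hD (hmap a (mem_sup_left ha)) (by
        rw [conj_pow, orderOf_dvd_iff_pow_eq_one.1 (Subgroup.orderOf_dvd_natCard K ha), mul_one,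
          mul_inv_cancel])) (card_cj g K).ge)
  exact (normalizer_inf_K hU hG hM hD.hall hK1).le (mem_inf.2 ⟨hgM, hgK⟩)

include hU hG hM in
theorem zHat_normalizer (hD : IsSigmaDecomposition M K U) (hK1 : K ≠ ⊥) {X : Set G}
    (hX : X ⊆ zHat M K) (hne : X.Nonempty) : normalizer X = K ⊔ cstar M K := by
  obtain ⟨hcyc, -, -, -⟩ := zGroup_facts hU hG hM hD hK1
  obtain ⟨z, hz⟩ := hne
  refine le_antisymm (fun g hg => zHat_conj hU hG hM hD hK1 (hX hz)
    (hX ((mem_set_normalizer_iff.1 hg z).1 hz))) fun g hg => ?_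
  have hfix : ∀ a ∈ K ⊔ cstar M K, g * a * g⁻¹ = a := fun a ha => by
    rw [commute_of_cyclic hcyc hg ha, mul_inv_cancel_right]
  refine mem_set_normalizer_iff.2 fun a => ⟨fun h => by rwa [hfix a (hX h).1], fun h => ?_⟩
  have h2 : g⁻¹ * (g * a * g⁻¹) * g = g * a * g⁻¹ := by
    rw [mul_assoc g⁻¹, commute_of_cyclic hcyc (hX h).1 hg, inv_mul_cancel_left]
  rw [← mul_assoc, ← mul_assoc, inv_mul_cancel, one_mul, inv_mul_cancel_right] at h2
  rwa [← h2] at h

include hU hG hM in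
theorem zHat_nonempty (hD : IsSigmaDecomposition M K U) (hK1 : K ≠ ⊥) : (zHat M K).Nonempty := by
  obtain ⟨⟨x, hx⟩, hx1⟩ := K.ne_bot_iff_exists_ne_one.1 hK1
  obtain ⟨⟨y, hy⟩, hy1⟩ := ne_bot_iff_exists_ne_one.1 (cstar_ne_bot hU hG hM hD.hall)
  have hint : ∀ a ∈ K, a ∈ cstar M K → a = 1 := fun a ha hb =>
    mem_bot.1 ((K_inf_sigmaCore hU hG hM hD.hall).le (mem_inf.2 ⟨ha, cstar_le_sigmaCore M K hb⟩))
  refine ⟨x * y, mul_mem_sup hx hy, ?_⟩
  rintro (h | h)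
  · exact hy1 (Subtype.ext (hint y ((mul_mem_cancel_left hx).1 h) hy))
  · exact hx1 (Subtype.ext (hint x hx ((mul_mem_cancel_right hy).1 h)))

include hU hG hM in
theorem isSelfNormalizingCyclic (hD : IsSigmaDecomposition M K U) (hK1 : K ≠ ⊥) :
    IsSelfNormalizingCyclic K (cstar M K) :=
  ⟨hK1, cstar_ne_bot hU hG hM hD.hall,
    le_bot_iff.1 ((inf_le_inf_left K (cstar_le_sigmaCore M K)).trans
      (K_inf_sigmaCore hU hG hM hD.hall).le),
    fun _ ha _ hb => mem_centralizer_iff.1 (mem_inf.1 hb).2 _ ha,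
    (zGroup_facts hU hG hM hD hK1).1, fun _ hX hne => zHat_normalizer hU hG hM hD hK1 hX hne⟩

include hU hG hM in
/-- BG 16.3: `Ẑ` is a TI-set with normaliser `Z`. -/
theorem isTISubset_zHat (hD : IsSigmaDecomposition M K U) (hK1 : K ≠ ⊥) :
    IsTISubset (zHat M K) ∧ normalizer (zHat M K) = K ⊔ cstar M K := by
  have h := zHat_normalizer hU hG hM hD hK1 subset_rfl (zHat_nonempty hU hG hM hD hK1)
  exact ⟨fun g hg z hz hgz => absurd (h.ge (zHat_conj hU hG hM hD hK1 hz hgz)) hg, h⟩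

/-! ### `A₀(M) - A(M)` -/

include hU hG hM in
theorem sigmaA0_diff (hD : IsSigmaDecomposition M K U) (hK1 : K ≠ ⊥) :
    {a : G | ∃ m ∈ M, ∃ z ∈ zHat M K, a = m * z * m⁻¹} = sigmaA0 M K \ sigmaA M U := by
  obtain ⟨-, hZM, -, -⟩ := zGroup_facts hU hG hM hD hK1
  have hn : K ≤ normalizer (cstar M K : Set G) := fun k hk => centralizer_le_normalizer _
    (mem_centralizer_iff.2 fun c hc => (mem_centralizer_iff.1 (mem_inf.1 hc).2 k hk).symm)
  have hCS := cstar_le_sigmaCore M K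
  have hKUS := K_inf_U_sup_sigmaCore hU hG hM hD
  ext a
  constructor
  · rintro ⟨m, hm, z, hz, rfl⟩
    have hzM : z ∈ M := hZM hz.1
    have hsplit : ∃ x ∈ K, ∃ y ∈ cstar M K, x ≠ 1 ∧ y ≠ 1 ∧ z = x * y := by
      obtain ⟨x, hx, y, hy, rfl⟩ :=
        (CfsgLib.Coprime.mem_sup_iff_of_le_normalizer hn).1 hz.1
      refine ⟨x, hx, y, hy, fun e => hz.2 (Or.inr ?_), fun e => hz.2 (Or.inl ?_), rfl⟩
      · rw [e, one_mul]; exact hy
      · rw [e, mul_one]; exact hx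
    obtain ⟨x, hx, y, hy, hx1, hy1, rfl⟩ := hsplit
    have hc : x * y = y * x := mem_centralizer_iff.1 (mem_inf.1 hy).2 x hx
    refine ⟨⟨⟨mul_mem (mul_mem hm hzM) (inv_mem hm), m * y * m⁻¹,
      (mem_normalizer_iff.1 (le_normalizer_sigmaCore M hm) y).1 (hCS hy),
      fun e => hy1 (conj_eq_one_iff.1 e), by rw [conj_mul, conj_mul, ← mul_assoc y, ← hc]⟩, ?_⟩, ?_⟩
    · rintro ⟨k, hk, -, n, hn', he⟩
      refine hz.2 (Or.inl (mem_K_of_pow_card hU hG hM hD hz.1 ?_))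
      have h := congrArg (· ^ Nat.card K) he
      simp only [conj_pow] at h
      rw [orderOf_dvd_iff_pow_eq_one.1 (Subgroup.orderOf_dvd_natCard K hk), mul_one,
        mul_inv_cancel, conj_eq_one_iff] at h
      exact h
    · rintro ⟨-, h⟩
      have hxy : x * y ∈ U ⊔ sigmaCore M := (mem_normalizer_iff.1 (decomp_normal hD hm) _).2 h
      exact hx1 (mem_bot.1 (hKUS.le
        (mem_inf.2 ⟨hx, (mul_mem_cancel_right (mem_sup_right (hCS hy))).1 hxy⟩)))
  · rintro ⟨⟨⟨haM, y, hy, hy1, hay⟩, hnK⟩, hnA⟩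
    have haU : a ∉ U ⊔ sigmaCore M := fun h => hnA ⟨⟨haM, y, hy, hy1, hay⟩, h⟩
    obtain ⟨k, b, hk, hb, hkb, hkκ, hbκ⟩ := exists_pi_split (kappa M) a
    have hUS := sup_le hD.compl.1 (sigmaCore_le M)
    have hk1 : k ≠ 1 := by
      intro e
      rw [e, one_mul] at hkb
      haveI := maximal_solvable hG hM
      refine haU ?_
      haveI : ((U ⊔ sigmaCore M).subgroupOf M).Normal :=
        normal_subgroupOf_of_le_normalizer (decomp_normal hD)
      rw [← mem_subgroupOf (K := M) (h := ⟨a, haM⟩), ← QuotientGroup.eq_one_iff,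
        ← orderOf_eq_one_iff]
      refine Nat.eq_one_iff_not_exists_prime_dvd.2 fun p hp hd => ?_
      have hp1 := hd.trans (orderOf_map_dvd (QuotientGroup.mk' _) _)
      rw [Subgroup.orderOf_mk] at hp1
      refine hbκ p hp (hkb.symm ▸ hp1) ?_
      have hp2 := hd.trans (orderOf_dvd_natCard _)
      have hidx : (U ⊔ sigmaCore M).relIndex M ∣ Nat.card K := by
        have hcard : Nat.card ↥(U ⊔ sigmaCore M) = Nat.card U * Nat.card (sigmaCore M) :=
          CfsgLib.Coprime.card_sup_of_inf_eq_bot (hD.compl.1.trans (le_normalizer_sigmaCore M))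
            (CfsgLib.Base.inf_eq_bot_of_coprime (coprime_U_sigmaCore hU hG hM hD))
        refine dvd_of_eq (Nat.eq_of_mul_eq_mul_right (Nat.card_pos (α := ↥(U ⊔ sigmaCore M))) ?_)
        rw [relIndex_mul_card_of_le hUS, hcard, ← decomp_card hU hG hM hD]
        ring
      exact hD.hall.2.1 p hp (hp2.trans hidx)
    haveI := maximal_solvable hG hM
    have hkM : k ∈ M := zpowers_le.2 haM hk
    obtain ⟨g, hg⟩ := (CfsgLib.Coprime.hallD_of_solvable (G := M) (kappa M)).conj_le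
      (U := zpowers (⟨k, hkM⟩ : M)) (H := K.subgroupOf M) (fun q hq hd => by
        rw [Nat.card_zpowers, Subgroup.orderOf_mk] at hd
        exact hkκ q hq hd)
      (CfsgLib.Coprime.piHallOf_iff.1 hD.hall).2
    have hgk : (g : G) * k * (g : G)⁻¹ ∈ K :=
      mem_subgroupOf.1 (hg (Subgroup.smul_mem_pointwise_smul _ (MulAut.conj g) _ (mem_zpowers _)))
    have hgk1 : (g : G) * k * (g : G)⁻¹ ≠ 1 := fun e => hk1 (conj_eq_one_iff.1 e)
    have hcomm : a * k = k * a := by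
      obtain ⟨i, rfl⟩ := hk
      exact (Commute.zpow_right (Commute.refl a) i).eq
    have hz : (g : G) * a * (g : G)⁻¹ ∈ K ⊔ cstar M K := by
      rw [← centralizer_inf_eq hU hG hM hD.cyclic hD.hall hgk hgk1]
      exact mem_inf.2 ⟨mul_mem (mul_mem g.2 haM) (inv_mem g.2),
        mem_centralizer_singleton_iff.2 (by rw [conj_mul, conj_mul, hcomm])⟩
    have hback : a = (g : G)⁻¹ * ((g : G) * a * (g : G)⁻¹) * ((g : G)⁻¹)⁻¹ := by group
    refine ⟨(g : G)⁻¹, inv_mem g.2, _, ⟨hz, ?_⟩, hback⟩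
    rintro (h | h)
    · refine hnK ⟨_, h, fun e => haU ?_, (g : G)⁻¹, inv_mem g.2, hback⟩
      rw [conj_eq_one_iff] at e
      rw [e]; exact one_mem _
    · exact haU ((mem_normalizer_iff.1 (decomp_normal hD g.2) a).2 (mem_sup_right (hCS h)))

include hU hG hM in
/-- An element of `A₀(M) - A(M)` has its centraliser in `M`, and its fusion in that set is by `M`. -/
theorem sigmaA0_control (hD : IsSigmaDecomposition M K U) (hK1 : K ≠ ⊥) {a : G}
    (ha : a ∈ sigmaA0 M K \ sigmaA M U) :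
    centralizer ({a} : Set G) ≤ M ∧
      ∀ g : G, g * a * g⁻¹ ∈ sigmaA0 M K \ sigmaA M U → g ∈ M := by
  rw [← sigmaA0_diff hU hG hM hD hK1] at ha ⊢
  obtain ⟨-, hZM, hC, -⟩ := zGroup_facts hU hG hM hD hK1
  obtain ⟨m, hm, z, hz, rfl⟩ := ha
  refine ⟨fun c hc => ?_, fun g hga => ?_⟩
  · have h1 : m⁻¹ * c * m ∈ centralizer ({z} : Set G) := mem_centralizer_singleton_iff.2 (by
      calc m⁻¹ * c * m * z = m⁻¹ * (c * (m * z * m⁻¹)) * m := by group
        _ = z * (m⁻¹ * c * m) := by rw [mem_centralizer_singleton_iff.1 hc]; group)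
    rw [hC z hz] at h1
    exact (mul_mem_cancel_left (inv_mem hm)).1 ((mul_mem_cancel_right hm).1 (hZM h1))
  · obtain ⟨n, hn, w, hw, he⟩ := hga
    have hgz : (n⁻¹ * g * m) * z * (n⁻¹ * g * m)⁻¹ = w := by
      rw [show w = n⁻¹ * (n * w * n⁻¹) * n by group, ← he]; group
    have h : n⁻¹ * g * m ∈ M := hZM (zHat_conj hU hG hM hD hK1 hz (hgz.symm ▸ hw))
    rwa [mul_mem_cancel_right hm, mul_mem_cancel_left (inv_mem hn)] at h

include hU hG hM in
/-- BG 16.4. -/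
theorem isTISubset_sigmaA0_diff (hD : IsSigmaDecomposition M K U) (hK1 : K ≠ ⊥) :
    IsTISubset (sigmaA0 M K \ sigmaA M U) := by
  intro g hg a ha hga
  have h := (sigmaA0_control hU hG hM hD hK1 ha).2 g hga
  refine absurd ?_ hg
  rw [← sigmaA0_diff hU hG hM hD hK1]
  refine mem_set_normalizer_iff.2 fun b => ⟨?_, ?_⟩
  · rintro ⟨l, hl, v, hv, rfl⟩
    exact ⟨g * l, mul_mem h hl, v, hv, by group⟩
  · rintro ⟨l, hl, v, hv, hb⟩
    refine ⟨g⁻¹ * l, mul_mem (inv_mem h) hl, v, hv, ?_⟩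
    rw [show b = g⁻¹ * (g * b * g⁻¹) * g by group, hb]; group

end CfsgLib.FT.BG16
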