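import Cfsg.Agent.Lib.FT.BG16.Sets
import Cfsg.Agent.Lib.FT.BG15.Fitting
import Cfsg.Agent.Lib.FT.BG15.NonTIExponent

/-!
BG section 16: the data of the types of maximal subgroups.
-/

set_option autoImplicit false
set_option linter.style.haveILetI false

universe u

open Cfsg CfsgLib.OddOrder CfsgLib.Techniques Subgroup
open CfsgLib.FT.BG15
open scoped commutatorElement

namespace CfsgLib.FT.BG16

variable {G : Type u} [Group G]

theorem isComplIn_swap {A B M : Subgroup G} (h : IsComplIn A B M) (hn : M ≤ normalizer (B : Set G)) :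
    IsComplIn B A M := by
  refine ⟨h.2.1, h.1, by rw [inf_comm]; exact h.2.2.1, fun m hm => ?_⟩
  obtain ⟨a, ha, b, hb, rfl⟩ := h.2.2.2 m hm
  exact ⟨a * b * a⁻¹, (mem_normalizer_iff.1 (hn (h.1 ha)) b).1 hb, a, ha, by group⟩

/-- The derived subgroup of a group acting on a cyclic group acts trivially. -/
theorem commutator_le_centralizer_of_cyclic_normal {C X : Subgroup G} (hC : IsCyclic C)
    (hX : X ≤ normalizer (C : Set G)) : ⁅X, X⁆ ≤ centralizer (C : Set G) := by
  obtain ⟨⟨g, hg⟩, hgen⟩ := hC.exists_generator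
  have hz : C = zpowers g := le_antisymm (fun c hc => by
    obtain ⟨i, hi⟩ := hgen ⟨c, hc⟩
    exact ⟨i, congrArg Subtype.val hi⟩) (zpowers_le.2 hg)
  subst hz
  have hmem : ∀ x ∈ X, ∀ c ∈ zpowers g, x * c * x⁻¹ ∈ zpowers g := fun x hx c hc =>
    (mem_normalizer_iff.1 (hX hx) c).1 hc
  have hcomm : ∀ a ∈ X, ∀ b ∈ X, ∀ c ∈ zpowers g,
      a * (b * c * b⁻¹) * a⁻¹ = b * (a * c * a⁻¹) * b⁻¹ := by
    rintro a ha b hb _ ⟨n, rfl⟩
    obtain ⟨i, hi⟩ := hmem a ha g hg
    obtain ⟨j, hj⟩ := hmem b hb g hg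
    simp only at hi hj ⊢
    have ka : ∀ m : ℤ, a * g ^ m * a⁻¹ = g ^ (i * m) := fun m => by
      rw [← conj_zpow, ← hi, ← zpow_mul]
    have kb : ∀ m : ℤ, b * g ^ m * b⁻¹ = g ^ (j * m) := fun m => by
      rw [← conj_zpow, ← hj, ← zpow_mul]
    rw [kb n, ka, ka n, kb]
    congr 1
    ring
  refine commutator_le.2 fun a ha b hb => mem_centralizer_iff.2 fun c hc => ?_
  have hd : (b * a)⁻¹ * c * (b * a) ∈ zpowers g := by
    simpa using hmem _ (inv_mem (mul_mem hb ha)) c hc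
  have h := hcomm a ha b hb _ hd
  have h2 : ⁅a, b⁆ * c * ⁅a, b⁆⁻¹ = c := by
    calc ⁅a, b⁆ * c * ⁅a, b⁆⁻¹
        = a * (b * ((b * a)⁻¹ * c * (b * a)) * b⁻¹) * a⁻¹ := by rw [commutatorElement_def]; group
      _ = b * (a * ((b * a)⁻¹ * c * (b * a)) * a⁻¹) * b⁻¹ := h
      _ = c := by group
  exact (mul_inv_eq_iff_eq_mul.1 h2).symm

variable [Finite G]

/-- Two Hall subgroups of a solvable group of the same order are conjugate. -/
theorem exists_conj_eq_of_card {M A B : Subgroup G} (hs : Group.IsSolvable M) (hA : A ≤ M)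
    (hB : B ≤ M) (hcard : Nat.card A = Nat.card B)
    (hcop : (Nat.card B).Coprime (B.relIndex M)) : ∃ m ∈ M, cj m A = B := by
  haveI := hs
  have hπ : IsPiHallOf {p | p.Prime ∧ p ∣ Nat.card B} B M :=
    ⟨hB, fun p hp hd => ⟨hp, hd⟩,
      fun p hp hπ hd => hp.not_dvd_one (hcop.gcd_eq_one ▸ Nat.dvd_gcd hπ.2 hd)⟩
  obtain ⟨g, hg⟩ := (CfsgLib.Coprime.hallD_of_solvable (G := M)
    {p | p.Prime ∧ p ∣ Nat.card B}).conj_le (U := A.subgroupOf M) (H := B.subgroupOf M)
    (fun q hq hd => ⟨hq, by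
      rwa [Nat.card_congr (subgroupOfEquivOfLe hA).toEquiv, hcard] at hd⟩)
    (CfsgLib.Coprime.piHallOf_iff.1 hπ).2
  refine ⟨g, g.2, eq_of_le_of_card_ge (cj_le_iff.2 fun a ha => ?_) (by rw [card_cj, hcard])⟩
  exact mem_subgroupOf.1 (hg (Subgroup.smul_mem_pointwise_smul (⟨a, hA ha⟩ : M) (MulAut.conj g) _
    (mem_subgroupOf.2 ha)))

variable (hU : BG15.Upstream.{u}) (hG : IsMinSimpleOddOrder G) {M : Subgroup G} (hM : IsCoatom M)
variable {K U : Subgroup G}

/-! ### Numbers -/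

include hU hG hM in
theorem card_U_sup_sigmaCore (hD : IsSigmaDecomposition M K U) :
    Nat.card ↥(U ⊔ sigmaCore M) = Nat.card U * Nat.card (sigmaCore M) :=
  CfsgLib.Coprime.card_sup_of_inf_eq_bot (hD.compl.1.trans (le_normalizer_sigmaCore M))
    (CfsgLib.Base.inf_eq_bot_of_coprime (coprime_U_sigmaCore hU hG hM hD))

include hU hG hM in
theorem derived_compl (hD : IsSigmaDecomposition M K U) (hK1 : K ≠ ⊥) :
    IsComplIn ⁅M, M⁆ K M := by
  rw [derived_eq hU hG hM hD hK1]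
  refine isComplIn_swap (isComplIn_of_card hD.hall.1 (sup_le hD.compl.1 (sigmaCore_le M))
    (hD.hall.1.trans (decomp_normal hD)) (K_inf_U_sup_sigmaCore hU hG hM hD) ?_) (decomp_normal hD)
  rw [card_U_sup_sigmaCore hU hG hM hD, ← decomp_card hU hG hM hD]
  ring

include hU hG hM in
theorem sigmaCore_compl (hD : IsSigmaDecomposition M K U) :
    IsComplIn (sigmaCore M) U (U ⊔ sigmaCore M) :=
  isComplIn_swap (isComplIn_of_card le_sup_left le_sup_right
    (hD.compl.1.trans (le_normalizer_sigmaCore M))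
    (CfsgLib.Base.inf_eq_bot_of_coprime (coprime_U_sigmaCore hU hG hM hD))
    (card_U_sup_sigmaCore hU hG hM hD).symm)
    (le_trans (sup_le hD.compl.1 (sigmaCore_le M)) (le_normalizer_sigmaCore M))

/-! ### The complement of `M_F` in `M_σ` -/

include hU hG hM in
/-- A complement of `M_F` in `M_σ` invariant under `K`. -/
theorem exists_fcore_compl (hK : IsPiHallOf (kappa M) K M) :
    ∃ D : Subgroup G, IsComplIn (fittingHallOf M) D (sigmaCore M) ∧
      K ≤ normalizer (D : Set G) := by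
  haveI := maximal_solvable hG hM
  set F := fittingHallOf M with hF
  have hFM := fittingHallOf_le M
  have hn := le_normalizer_fittingHallOf M
  obtain ⟨C, hCM, hCc, hsup⟩ := CfsgLib.Coprime.exists_complement_in hFM hn (coprime_fittingHallOf M)
  have hCint : F ⊓ C = ⊥ := CfsgLib.Base.inf_eq_bot_of_coprime (hCc ▸ coprime_fittingHallOf M)
  have hCidx : C.relIndex M = Nat.card F := Nat.eq_of_mul_eq_mul_right (Nat.card_pos (α := C))
    ((relIndex_mul_card_of_le hCM).trans (by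
      rw [hCc, mul_comm]; exact (relIndex_mul_card_of_le hFM).symm))
  have hKF : ∀ p : ℕ, p.Prime → p ∣ Nat.card K → p ∣ F.relIndex M := by
    intro p hp hd
    rcases hp.dvd_mul.1 ((hd.trans (card_dvd_of_le hK.1)).trans
      (relIndex_mul_card_of_le hFM).symm.dvd) with h | h
    · exact h
    · exact absurd ((sigmaCore_hallOf hU hG hM).2.1 p hp
        (h.trans (card_dvd_of_le (fittingHallOf_le_sigmaCore hG hM))))
        (not_sigma_of_kappa (hK.2.1 p hp hd))
  have hπ : IsPiHallOf {p | p.Prime ∧ p ∣ F.relIndex M} C M :=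
    ⟨hCM, fun p hp hd => ⟨hp, hCc ▸ hd⟩, fun p hp hπ hd =>
      hp.not_dvd_one ((coprime_fittingHallOf M).gcd_eq_one ▸ Nat.dvd_gcd (hCidx ▸ hd) hπ.2)⟩
  obtain ⟨g, hg⟩ := (CfsgLib.Coprime.hallD_of_solvable (G := M)
    {p | p.Prime ∧ p ∣ F.relIndex M}).conj_le (U := K.subgroupOf M) (H := C.subgroupOf M)
    (fun q hq hd => ⟨hq, hKF q hq
      (by rwa [Nat.card_congr (subgroupOfEquivOfLe hK.1).toEquiv] at hd)⟩)
    (CfsgLib.Coprime.piHallOf_iff.1 hπ).2
  set C' := cj (g : G)⁻¹ C with hC'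
  have hKC' : K ≤ C' := fun k hk => mem_cj.2 (by
    rw [inv_inv]
    exact mem_subgroupOf.1 (hg (Subgroup.smul_mem_pointwise_smul (⟨k, hK.1 hk⟩ : M) (MulAut.conj g) _
      (mem_subgroupOf.2 hk))))
  have hcF : cj (g : G)⁻¹ F = F := mem_normalizer_iff_cj.1 (hn (inv_mem g.2))
  have hC'int : F ⊓ C' = ⊥ := by rw [hC', ← hcF, ← cj_inf, hCint, cj_bot]
  have hSn : K ≤ normalizer (sigmaCore M : Set G) := hK.1.trans (le_normalizer_sigmaCore M)
  refine ⟨C' ⊓ sigmaCore M, ⟨fittingHallOf_le_sigmaCore hG hM, inf_le_right,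
    le_bot_iff.1 ((inf_le_inf_left F inf_le_left).trans hC'int.le), fun s hs => ?_⟩,
    CfsgLib.Coprime.le_normalizer_inf_inf (hKC'.trans le_normalizer) hSn⟩
  have hsM : (g : G) * s * (g : G)⁻¹ ∈ F ⊔ C :=
    hsup.symm ▸ mul_mem (mul_mem g.2 (sigmaCore_le M hs)) (inv_mem g.2)
  rw [sup_comm, CfsgLib.Coprime.mem_sup_iff_of_le_normalizer (hCM.trans hn)] at hsM
  obtain ⟨c, hc, f, hf, e⟩ := hsM
  have hf' : (g : G)⁻¹ * (c * f * c⁻¹) * (g : G) ∈ F := by
    have h1 := (mem_normalizer_iff.1 (hn (hCM hc)) f).1 hf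
    have h2 := (mem_normalizer_iff.1 (hn (inv_mem g.2)) _).1 h1
    rwa [inv_inv] at h2
  have hs' : s = ((g : G)⁻¹ * (c * f * c⁻¹) * (g : G)) * ((g : G)⁻¹ * c * (g : G)) := by
    rw [show s = (g : G)⁻¹ * ((g : G) * s * (g : G)⁻¹) * g by group, ← e]; group
  refine ⟨_, hf', _, mem_inf.2 ⟨mem_cj.2 (by rw [inv_inv]; group; exact hc), ?_⟩, hs'⟩
  rw [eq_inv_mul_of_mul_eq hs'.symm]
  exact mul_mem (inv_mem (fittingHallOf_le_sigmaCore hG hM hf')) hs

include hU hG hM in
theorem isNilpotent_fcore_compl (hne : fittingHallOf M ≠ sigmaCore M) {D : Subgroup G}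
    (hD : IsComplIn (fittingHallOf M) D (sigmaCore M)) : Group.IsNilpotent D := by
  have hDM : D ≤ M := hD.2.1.trans (sigmaCore_le M)
  let φ : D →* ↥M ⧸ Cfsg.fittingHall ↥M := (fittingQuot M).comp (inclusion hDM)
  have hinj : Function.Injective φ := by
    rw [← MonoidHom.ker_eq_bot_iff, eq_bot_iff]
    intro d hd
    refine mem_bot.2 (Subtype.ext (mem_bot.1 (hD.2.2.1.le (mem_inf.2 ⟨?_, d.2⟩))))
    exact eq_one_iff_mem_fittingHallOf.1 (MonoidHom.mem_ker.1 hd)
  haveI : Group.IsNilpotent φ.range :=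
    CfsgLib.Base.isNilpotent_of_le (by
      rintro _ ⟨d, rfl⟩
      exact mem_map_of_mem (fittingQuot M) (x := inclusion hDM d) (mem_subgroupOf.2 (hD.2.1 d.2)))
      (isNilpotent_sigmaCore_quot hU hG hM hne)
  exact Group.nilpotent_of_mulEquiv (MonoidHom.ofInjective hinj).symm

omit hU in
include hG hM in
theorem fcore_compl_ne_bot (hne : fittingHallOf M ≠ sigmaCore M) {D : Subgroup G}
    (hD : IsComplIn (fittingHallOf M) D (sigmaCore M)) : D ≠ ⊥ := by
  intro e
  refine hne (le_antisymm (fittingHallOf_le_sigmaCore hG hM) fun s hs => ?_)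
  obtain ⟨a, ha, b, hb, rfl⟩ := hD.2.2.2 s hs
  rw [e, mem_bot] at hb
  rw [hb, mul_one]
  exact ha

include hU hG hM in
theorem normalizer_fcore_compl_le (hne : fittingHallOf M ≠ sigmaCore M) {D : Subgroup G}
    (hD : IsComplIn (fittingHallOf M) D (sigmaCore M)) : normalizer (D : Set G) ≤ M := by
  have hDn := isNilpotent_fcore_compl hU hG hM hne hD
  obtain ⟨r, hr, hd⟩ := Nat.exists_prime_and_dvd (n := Nat.card D)
    fun e => fcore_compl_ne_bot hG hM hne hD (eq_bot_of_card_eq D e)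
  haveI := Fact.mk hr
  have hS := sigmaCore_hallOf hU hG hM
  have hrσ : r ∈ sigma M := hS.2.1 r hr (hd.trans (card_dvd_of_le hD.2.1))
  set R := piCoreOf {r} D with hR
  have hRh := piCoreOf_hall_nilpotent {r} hDn
  have hidx : D.relIndex (sigmaCore M) = Nat.card (fittingHallOf M) :=
    Nat.eq_of_mul_eq_mul_right (Nat.card_pos (α := D))
      ((relIndex_mul_card_of_le hD.2.1).trans (card_mul_card_of_isComplIn hD).symm)
  have hrF : ¬ r ∣ Nat.card (fittingHallOf M) := fun h => by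
    have hc := (fittingHallOf_hall_sigma hG hM).gcd_eq_one
    have h1 : (fittingHallOf M).relIndex (sigmaCore M) = Nat.card D :=
      Nat.eq_of_mul_eq_mul_right (Nat.card_pos (α := fittingHallOf M))
        ((relIndex_mul_card_of_le hD.1).trans (by rw [mul_comm, card_mul_card_of_isComplIn hD]))
    exact hr.not_dvd_one (hc ▸ Nat.dvd_gcd h (h1 ▸ hd))
  have hsyl : SylIn r R M := by
    refine ⟨(piCoreOf_le _ D).trans (hD.2.1.trans (sigmaCore_le M)), isPGroup_hallPart D,
      fun hd' => ?_⟩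
    rw [← relIndex_mul_relIndex _ _ _ (piCoreOf_le _ D) (hD.2.1.trans (sigmaCore_le M)),
      ← relIndex_mul_relIndex _ _ _ hD.2.1 (sigmaCore_le M)] at hd'
    rcases hr.dvd_mul.1 hd' with h | h
    · exact hRh.2.2 r hr rfl h
    rcases hr.dvd_mul.1 h with h | h
    · exact hrF (hidx ▸ h)
    · exact hS.2.2 r hr hrσ h
  exact (le_normalizer_hallPart {r} le_rfl).trans ((mem_sigma_iff hsyl).1 hrσ).2

/-! ### Type P -/

include hU hG hM in
theorem fittingHallOf_not_cyclic (hD : IsSigmaDecomposition M K U) (hK1 : K ≠ ⊥) :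
    ¬ IsCyclic (fittingHallOf M) := by
  intro hc
  by_cases hH : fittingHallOf M = sigmaCore M
  · rw [hH] at hc
    have hd : ⁅M, M⁆ ≤ centralizer (sigmaCore M : Set G) :=
      commutator_le_centralizer_of_cyclic_normal hc (le_normalizer_sigmaCore M)
    rw [derived_eq hU hG hM hD hK1] at hd
    have hUb : U = ⊥ := by
      by_contra hU1
      refine sigmaCore_ne_bot' hU hG hM (le_bot_iff.1 (le_trans (le_inf le_rfl ?_)
        (sigmaCore_inf_centralizer_U hU hG hM hD hK1 hU1).le))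
      exact CfsgLib.Base.le_centralizer_comm.1 (le_sup_left.trans hd)
    have h2 := cstar_le_second_derived hU hG hM hD hK1
    rw [derived_eq_sigmaCore hU hG hM hD hUb] at h2
    refine cstar_ne_bot hU hG hM hD.hall (le_bot_iff.1 (h2.trans (le_of_eq ?_)))
    exact commutator_eq_bot_iff_le_centralizer.2 fun a ha =>
      mem_centralizer_iff.2 fun b hb => commute_of_cyclic hc hb ha
  obtain ⟨q, Q, hQ⟩ := exists_fcoreData hU hG hM hD hH
  obtain ⟨D, hDc, -, -⟩ := hQ.exists_compl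
  obtain ⟨-, -, -, hcard, hpow, -, -⟩ := hQ.compl D hDc
  haveI := hc
  haveI : IsCyclic Q :=
    isCyclic_of_injective (inclusion hQ.le_fittingHall) (inclusion_injective _)
  obtain ⟨⟨a, ha⟩, hgen⟩ := IsCyclic.exists_generator (α := Q)
  set C := Q ⊓ centralizer (D : Set G) with hC
  have hord : orderOf a = Nat.card Q := by
    rw [← orderOf_eq_card_of_forall_mem_zpowers hgen, orderOf_mk]
  have h1 : Nat.card Q ∣ q * Nat.card C := by
    rw [← hord, orderOf_dvd_iff_pow_eq_one, pow_mul]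
    exact orderOf_dvd_iff_pow_eq_one.1 (Subgroup.orderOf_dvd_natCard C (hpow a ha a ha).1)
  rw [hcard, mul_comm q] at h1
  have h2 := Nat.dvd_of_mul_dvd_mul_left Nat.card_pos h1
  have h3 := Nat.le_of_dvd hQ.hq.pos h2
  have h4 : q ^ 1 < q ^ Nat.card K := Nat.pow_lt_pow_right hQ.hq.one_lt hQ.K_prime.one_lt
  rw [pow_one] at h4
  omega

include hU hG hM in
theorem cstar_le_fittingHallOf (hD : IsSigmaDecomposition M K U) :
    cstar M K ≤ fittingHallOf M := by
  by_cases hH : fittingHallOf M = sigmaCore M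
  · rw [hH]; exact cstar_le_sigmaCore M K
  obtain ⟨q, Q, hQ⟩ := exists_fcoreData hU hG hM hD hH
  exact hQ.cstar_le.trans hQ.le_fittingHall

include hU hG hM in
theorem derived_inf_centralizer (hD : IsSigmaDecomposition M K U) (hK1 : K ≠ ⊥) {x : G} (hx : x ∈ K)
    (hx1 : x ≠ 1) : ⁅M, M⁆ ⊓ centralizer ({x} : Set G) = cstar M K := by
  refine le_antisymm (fun a ha => ?_) (le_inf ((cstar_le_sigmaCore M K).trans
    (sigmaCore_le_derived' hU hG hM)) (inf_le_right.trans (centralizer_le_of_mem hx)))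
  obtain ⟨haD, haC⟩ := mem_inf.1 ha
  have h : a ∈ K ⊔ cstar M K := centralizer_inf_le hU hG hM hD.hall hx hx1
    (mem_inf.2 ⟨commutator_le_self M haD, haC⟩)
  rw [CfsgLib.Coprime.mem_sup_iff_of_le_normalizer (fun k hk => centralizer_le_normalizer _
    (mem_centralizer_iff.2 fun c hc => (mem_centralizer_iff.1 (mem_inf.1 hc).2 k hk).symm))] at h
  obtain ⟨k, hk, c, hc, rfl⟩ := h
  rw [derived_eq hU hG hM hD hK1] at haD
  have hk1 : k = 1 := mem_bot.1 ((K_inf_U_sup_sigmaCore hU hG hM hD).le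
    (mem_inf.2 ⟨hk, (mul_mem_cancel_right (mem_sup_right (cstar_le_sigmaCore M K hc))).1 haD⟩))
  rw [hk1, one_mul]
  exact hc

include hU hG hM in
theorem isTypePWith_of_compl (hD : IsSigmaDecomposition M K U) (hK1 : K ≠ ⊥) {U₀ : Subgroup G}
    (hn : Group.IsNilpotent U₀) (hKn : K ≤ normalizer (U₀ : Set G))
    (hc : IsComplIn (fittingHallOf M) U₀ ⁅M, M⁆) : IsTypePWith M K U₀ (cstar M K) where
  W₁_ne := hK1
  W₁_cyclic := hD.cyclic
  W₁_hall := CfsgLib.Coprime.coprime_of_pi hD.hall.2.1 hD.hall.2.2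
  W₁_compl := derived_compl hU hG hM hD hK1
  U_nilpotent := hn
  U_normal := hKn
  U_compl := hc
  H_not_cyclic := fittingHallOf_not_cyclic hU hG hM hD hK1
  derived_two_le := by
    rw [sup_comm, ← fittingOf_eq hU hG hM]
    exact second_derived_le_fittingOf hU hG hM
  fitting_eq := by rw [sup_comm, ← fittingOf_eq hU hG hM]
  fitting_le := fittingOf_le_derived hU hG hM ((K_ne_bot_iff hU hG hM hD.hall).1 hK1)
  W₂_le := le_inf (cstar_le_fittingHallOf hU hG hM hD) (cstar_le_second_derived hU hG hM hD hK1)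
  W₂_centralizer := fun _ hx hx1 => derived_inf_centralizer hU hG hM hD hK1 hx hx1
  selfNormalizing := isSelfNormalizingCyclic hU hG hM hD hK1

include hU hG hM in
theorem isTypePWith_of_eq (hD : IsSigmaDecomposition M K U) (hK1 : K ≠ ⊥)
    (hH : fittingHallOf M = sigmaCore M) : IsTypePWith M K U (cstar M K) := by
  have hUc := U_comm hU hG hM hD hK1
  refine isTypePWith_of_compl hU hG hM hD hK1
    (letI : CommGroup U := { (inferInstance : Group U) with mul_comm := hUc.is_comm.comm }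
     inferInstance) hD.normal ?_
  rw [hH, derived_eq hU hG hM hD hK1]
  exact sigmaCore_compl hU hG hM hD

include hU hG hM in
theorem exists_isTypePWith (hD : IsSigmaDecomposition M K U) (hK1 : K ≠ ⊥) :
    ∃ U₀ : Subgroup G, IsTypePWith M K U₀ (cstar M K) := by
  by_cases hH : fittingHallOf M = sigmaCore M
  · exact ⟨U, isTypePWith_of_eq hU hG hM hD hK1 hH⟩
  obtain ⟨D, hDc, hKD⟩ := exists_fcore_compl hU hG hM hD.hall
  exact ⟨D, isTypePWith_of_compl hU hG hM hD hK1 (isNilpotent_fcore_compl hU hG hM hH hDc) hKD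
    (by rwa [derived_eq_sigmaCore hU hG hM hD (U_eq_bot_of_ne hU hG hM hD hH)])⟩

include hU hG hM in
/-- Any data of type P are those of a standard factorisation up to conjugation. -/
theorem typeP_data_conj (hD : IsSigmaDecomposition M K U) (hK1 : K ≠ ⊥) {W₁ V W₂ : Subgroup G}
    (hP : IsTypePWith M W₁ V W₂) :
    ∃ m ∈ M, W₁ = cj m K ∧ W₂ = cj m (cstar M K) := by
  have h1 := card_mul_card_of_isComplIn hP.W₁_compl
  rw [← card_mul_card_of_isComplIn (derived_compl hU hG hM hD hK1)] at h1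
  obtain ⟨m, hm, he⟩ := exists_conj_eq_of_card (maximal_solvable hG hM) hD.hall.1 hP.W₁_compl.2.1
    (Nat.eq_of_mul_eq_mul_left Nat.card_pos h1).symm hP.W₁_hall
  refine ⟨m, hm, he.symm, ?_⟩
  obtain ⟨⟨x, hx⟩, hx1⟩ := K.ne_bot_iff_exists_ne_one.1 hK1
  have hx1' : x ≠ 1 := fun e => hx1 (Subtype.ext e)
  rw [← hP.W₂_centralizer (m * x * m⁻¹) (he ▸ conj_mem_cj.2 hx) fun e => hx1' (conj_eq_one_iff.1 e),
    ← derived_inf_centralizer hU hG hM hD hK1 hx hx1', cj_inf, cj_commutator, cj_eq_self_of_mem hm]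
  congr 1
  ext a
  rw [mem_cj, mem_centralizer_singleton_iff, mem_centralizer_singleton_iff]
  constructor
  · intro h
    calc m⁻¹ * a * m * x = m⁻¹ * (a * (m * x * m⁻¹)) * m := by group
      _ = x * (m⁻¹ * a * m) := by rw [h]; group
  · intro h
    calc a * (m * x * m⁻¹) = m * (m⁻¹ * a * m * x) * m⁻¹ := by group
      _ = m * x * m⁻¹ * a := by rw [h]; group

end CfsgLib.FT.BG16
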