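import Cfsg.Agent.Lib.FT.BG16.Types
import Cfsg.Agent.S1350

/-!
BG section 16: the sets `A₁(M)`, `A(M)`, `A₀(M)` of the types, Theorem I, and fusion in `A₀(M)`.
-/

set_option autoImplicit false
set_option linter.style.haveILetI false

universe u

open Cfsg CfsgLib.OddOrder CfsgLib.Techniques Subgroup
open CfsgLib.FT.BG15
open scoped commutatorElement

namespace CfsgLib.FT.BG16

variable {G : Type u} [Group G] [Finite G]
variable (hU : BG15.Upstream.{u}) (hG : IsMinSimpleOddOrder G) {M : Subgroup G} (hM : IsCoatom M)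
variable {K U : Subgroup G}

include hU hG hM in
theorem typeA1_eq' : typeA1 M = (sigmaCore M : Set G) \ {1} := by
  rw [typeA1, typeCore_eq hU hG hM]

include hU hG hM in
theorem typeA_eq (hD : IsSigmaDecomposition M K U) : FT.typeA M = sigmaA M U \ {1} := by
  unfold FT.typeA
  by_cases hI : FT.IsOfTypeI M
  · obtain ⟨hK, hU1⟩ := (isOfTypeI_iff hU hG hM hD).1 hI
    rw [if_pos hI,
      fittingHallOf_eq_of_nilpotent hU hG hM (sigmaCore_nilpotent_of_U hU hG hM hD hU1)]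
    have hE := decomp_compl hU hG hM hD
    rw [hK, bot_sup_eq] at hE
    ext a
    simp only [sigmaA, sigmaHat, sup_eq_of_isComplIn hE, Set.mem_ofPred_eq, Set.mem_sdiff,
      Set.mem_inter_iff, SetLike.mem_coe, Set.mem_singleton_iff]
    tauto
  · have hK1 : K ≠ ⊥ := fun h =>
      hI ((isOfTypeI_iff hU hG hM hD).2 ⟨h, fun e => K_ne_bot_of_U_bot hU hG hM hD e h⟩)
    rw [if_neg hI, typeCore_eq hU hG hM, derived_eq hU hG hM hD hK1]
    ext a
    simp only [sigmaA, sigmaHat, Set.mem_ofPred_eq, Set.mem_sdiff,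
      Set.mem_inter_iff, SetLike.mem_coe, Set.mem_singleton_iff]
    exact ⟨fun ⟨h1, h2, h3⟩ => ⟨⟨⟨sup_le hD.compl.1 (sigmaCore_le M) h1, h3⟩, h1⟩, h2⟩,
      fun ⟨⟨⟨_, h3⟩, h1⟩, h2⟩ => ⟨h1, h2, h3⟩⟩

include hU hG hM in
theorem typeA_diff_eq (hD : IsSigmaDecomposition M K U) :
    FT.typeA M \ typeA1 M = sigmaA M U \ (sigmaCore M : Set G) := by
  rw [typeA_eq hU hG hM hD, typeA1_eq' hU hG hM]
  ext a
  simp only [Set.mem_sdiff, Set.mem_singleton_iff, SetLike.mem_coe]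
  constructor
  · rintro ⟨⟨h1, h2⟩, h3⟩
    exact ⟨h1, fun h => h3 ⟨h, h2⟩⟩
  · rintro ⟨h1, h2⟩
    exact ⟨⟨h1, fun e => h2 (e ▸ one_mem _)⟩, fun h => h2 h.1⟩

include hU hG hM in
theorem typeA0_eq (hD : IsSigmaDecomposition M K U) :
    FT.typeA0 M = FT.typeA M ∪ {a | K ≠ ⊥ ∧ a ∈ sigmaA0 M K \ sigmaA M U} := by
  unfold FT.typeA0
  congr 1
  ext a
  constructor
  · rintro ⟨-, W₁, V, W₂, hP, m, hm, w, hw, hw1, hw2, rfl⟩
    have hK1 := K_ne_bot_of_typeP hU hG hM hD hP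
    obtain ⟨n, hn, rfl, rfl⟩ := typeP_data_conj hU hG hM hD hK1 hP
    refine ⟨hK1, (sigmaA0_diff hU hG hM hD hK1).subset ⟨m * n, mul_mem hm hn, n⁻¹ * w * n, ?_, by group⟩⟩
    refine ⟨?_, ?_⟩
    · rw [SetLike.mem_coe, ← mem_cj, cj, Subgroup.map_sup]
      exact hw
    · rintro (h | h)
      · exact hw1 (mem_cj.2 h)
      · exact hw2 (mem_cj.2 h)
  · rintro ⟨hK1, ha⟩
    obtain ⟨m, hm, z, hz, rfl⟩ := (sigmaA0_diff hU hG hM hD hK1).symm.subset ha
    obtain ⟨V, hP⟩ := exists_isTypePWith hU hG hM hD hK1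
    exact ⟨fun hI => hK1 ((isOfTypeI_iff hU hG hM hD).1 hI).1, K, V, cstar M K, hP, m, hm, z, hz.1,
      fun h => hz.2 (Or.inl h), fun h => hz.2 (Or.inr h), rfl⟩

include hU hG hM in
/-- The three parts of `A₀(M)`. -/
theorem typeA0_cases (hD : IsSigmaDecomposition M K U) {a : G} (ha : a ∈ FT.typeA0 M) :
    a ≠ 1 ∧ (a ∈ sigmaCore M ∨ a ∈ sigmaA M U \ (sigmaCore M : Set G) ∨
      (K ≠ ⊥ ∧ a ∈ sigmaA0 M K \ sigmaA M U)) := by
  rw [typeA0_eq hU hG hM hD] at ha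
  rcases ha with ha | ⟨hK1, ha⟩
  · rw [typeA_eq hU hG hM hD] at ha
    by_cases h : a ∈ sigmaCore M
    · exact ⟨ha.2, Or.inl h⟩
    · exact ⟨ha.2, Or.inr (Or.inl ⟨ha.1, h⟩)⟩
  · refine ⟨fun e => ha.2 ?_, Or.inr (Or.inr ⟨hK1, ha⟩)⟩
    exact ⟨ha.1.1, e ▸ one_mem _⟩

include hU hG hM in
theorem mem_U_sup_sigmaCore (hD : IsSigmaDecomposition M K U) {a : G} (ha : a ∈ M)
    (h : ∀ p : ℕ, p.Prime → p ∣ orderOf a → p ∉ kappa M) : a ∈ U ⊔ sigmaCore M := by
  have hS := sigmaCore_hallOf hU hG hM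
  refine BG13.le_of_normal_hall (π := {p | p.Prime ∧ p ∉ kappa M}) (decomp_normal hD)
    ⟨sup_le hD.compl.1 (sigmaCore_le M),
      fun p hp hd => ⟨hp, U_sup_sigmaCore_primes hU hG hM hD hp hd⟩, fun p hp hπ hd => ?_⟩
    (zpowers_le.2 ha) (fun p hp hd => ⟨hp, h p hp (by rwa [Nat.card_zpowers] at hd)⟩)
    (mem_zpowers a)
  by_cases hσ : p ∈ sigma M
  · exact hS.2.2 p hp hσ (hd.trans (relIndex_dvd_of_le_left M le_sup_right))
  · exact (decomp_hall hU hG hM hD).2.2 p hp ⟨hp, hσ, hπ.2⟩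
      (hd.trans (relIndex_dvd_of_le_left M le_sup_left))

include hU hG hM in
/-- The fusion of `A₀(M)` is by `M`. -/
theorem fusion_typeA0 {x g : G} (hx : x ∈ FT.typeA0 M) (hgx : g * x * g⁻¹ ∈ FT.typeA0 M) :
    ∃ m ∈ M, m * x * m⁻¹ = g * x * g⁻¹ := by
  obtain ⟨K, U, hD⟩ := exists_decomposition hU hG hM
  have hord : orderOf (g * x * g⁻¹) = orderOf x := by simpa using orderOf_conj' g⁻¹ x
  have hσ : ∀ {a : G}, a ∈ sigmaCore M → ∀ p : ℕ, p.Prime → p ∣ orderOf a → p ∈ sigma M :=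
    fun ha p hp hd =>
      (sigmaCore_hallOf hU hG hM).2.1 p hp (hd.trans (Subgroup.orderOf_dvd_natCard _ ha))
  have hbad : ∀ {a b : G}, a ∈ sigmaA M U \ (sigmaCore M : Set G) →
      (K ≠ ⊥ ∧ b ∈ sigmaA0 M K \ sigmaA M U) → orderOf a ≠ orderOf b := by
    intro a b ha hb h
    exact hb.2.2 ⟨hb.2.1.1, mem_U_sup_sigmaCore hU hG hM hD hb.2.1.1.1 fun p hp hd =>
      U_sup_sigmaCore_primes hU hG hM hD hp ((h ▸ hd).trans (Subgroup.orderOf_dvd_natCard _ ha.1.2))⟩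
  have hS : ∀ {a b : G}, a ∈ sigmaCore M → orderOf a = orderOf b → b ∈ M → b ∈ sigmaCore M :=
    fun ha h hb => BG13.mem_sigmaCore_of_orderOf hU.bg13 hG hM hb fun p hp hd =>
      hσ ha p hp (h ▸ hd)
  have hmem : ∀ {a : G}, (a ∈ sigmaA M U \ (sigmaCore M : Set G) ∨
      (K ≠ ⊥ ∧ a ∈ sigmaA0 M K \ sigmaA M U)) → a ∈ M ∧ a ∉ sigmaCore M := by
    rintro a (h | ⟨-, h⟩)
    · exact ⟨h.1.1.1, h.2⟩
    · exact ⟨h.1.1.1, fun h' => h.2 ⟨h.1.1, mem_sup_right h'⟩⟩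
  obtain ⟨-, hx' | hx'⟩ := typeA0_cases hU hG hM hD hx <;>
    obtain ⟨-, hy' | hy'⟩ := typeA0_cases hU hG hM hD hgx
  · exact fusion_sigmaCore hU hG hM hx' hy'
  · exact absurd (hS hx' hord.symm (hmem hy').1) (hmem hy').2
  · exact absurd (hS hy' hord (hmem hx').1) (hmem hx').2
  · rcases hx' with hx' | hx' <;> rcases hy' with hy' | hy'
    · exact ⟨g, (sigmaA_control hU hG hM hD hx').2 g hy', rfl⟩
    · exact absurd hord.symm (hbad hx' hy')
    · exact absurd hord (hbad hy' hx')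
    · exact ⟨g, (sigmaA0_control hU hG hM hD hx'.1 hx'.2).2 g hy'.2, rfl⟩

include hU hG hM in
theorem mem_sigmaCore_of_not_le {x : G} (hx : x ∈ FT.typeA0 M)
    (hxM : ¬ centralizer ({x} : Set G) ≤ M) : x ∈ sigmaCore M ∧ x ≠ 1 := by
  obtain ⟨K, U, hD⟩ := exists_decomposition hU hG hM
  obtain ⟨hx1, h | h | ⟨hK1, h⟩⟩ := typeA0_cases hU hG hM hD hx
  · exact ⟨h, hx1⟩
  · exact absurd (sigmaA_control hU hG hM hD h).1 hxM
  · exact absurd (sigmaA0_control hU hG hM hD hK1 h).1 hxM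

include hU hG hM in
/-- BG Theorem II, the supporting subgroups. -/
theorem support_typeA0 {X : Set G} (hX : X ⊆ FT.typeA0 M) {x : G} (hx : x ∈ X)
    (hxM : ¬ centralizer ({x} : Set G) ≤ M) {L : Subgroup G} (hL : IsCoatom L)
    (hxL : centralizer ({x} : Set G) ≤ L) :
    IsComplIn (fittingHallOf L) (M ⊓ L) L ∧
      centralizer ({x} : Set G) ≤
        normalizer ((fittingHallOf L ⊓ centralizer ({x} : Set G) : Subgroup G) : Set G) ∧
      IsComplIn (fittingHallOf L ⊓ centralizer ({x} : Set G)) (M ⊓ centralizer ({x} : Set G))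
        (centralizer ({x} : Set G)) ∧
      (∀ y ∈ X, (Nat.card (fittingHallOf L)).Coprime
        (Nat.card ↥(M ⊓ centralizer ({y} : Set G)))) ∧
      (x ∈ FT.typeA L ∧ x ∉ typeA1 L) ∧ (FT.IsOfTypeI L ∨ IsOfTypeII L) ∧
      (IsOfTypeII L → ∃ E : Subgroup ↥M, IsFrobeniusComplement E ∧
        frobeniusKernel E = ((Cfsg.fittingHall ↥M : Subgroup ↥M) : Set ↥M)) := by
  obtain ⟨hxS, hx1⟩ := mem_sigmaCore_of_not_le hU hG hM (hX hx) hxM
  obtain ⟨N, -, huniq, hNF, hn, hc1, hc2, hA⟩ := hU.s1375 hG M hM x hxS hx1 hxM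
  obtain rfl : L = N := huniq L hL hxL
  obtain ⟨K', U', hD'⟩ := exists_decomposition hU hG hL
  obtain ⟨hU', hxA, hxN⟩ := hA K' U' hD'
  rw [← hNF]
  refine ⟨isComplIn_swap hc2 (le_normalizer_sigmaCore L), hn, isComplIn_swap hc1 hn,
    fun y hy => ?_, ⟨(typeA_eq hU hG hL hD').symm.subset ⟨hxA, hx1⟩,
      fun h => hxN ((typeA1_eq' hU hG hL).subset h).1⟩, ?_, fun hII => ?_⟩
  · refine Nat.coprime_of_dvd fun q hq h1 h2 => ?_
    haveI := Fact.mk hq
    have hqN : q ∈ sigma L := (sigmaCore_hallOf hU hG hL).2.1 q hq h1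
    have hqM : q ∉ sigma M := fun h => by
      obtain ⟨c, hc⟩ := hU.sigmaDisjoint hG M L hM hL ⟨q, h, hqN⟩
      refine hxN (BG13.mem_sigmaCore_of_orderOf hU.bg13 hG hL (hxL (mem_centralizer_singleton_iff.2 rfl))
        fun p hp hd => ?_)
      rw [show L = cj c M from hc, BG13.sigma_cj]
      exact (sigmaCore_hallOf hU hG hM).2.1 p hp (hd.trans (Subgroup.orderOf_dvd_natCard _ hxS))
    obtain ⟨hκ, hτ⟩ := (hU.s1436 hG M hM x hxS hx1 hxM L hL hxL).1
      ⟨q, hqN, h2.trans (card_dvd_of_le inf_le_left)⟩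
    have hno : ∀ {z b : G}, z ∈ sigmaCore M → z ≠ 1 → b ∈ M → b * z = z * b →
        ∀ p : ℕ, p.Prime → p ∣ orderOf b → p ∈ sigma M := by
      intro z b hz hz1 hb hbz p hp hd
      by_contra hpσ
      have hco : orderOf (b ^ (orderOf b / p)) = p := orderOf_pow_orderOf_div (orderOf_pos b).ne' hd
      set c := b ^ (orderOf b / p) with hcdef
      have hcz : c ∈ centralizer ({z} : Set G) := mem_centralizer_singleton_iff.2
        ((show Commute b z from hbz).pow_left _).eq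
      rcases hU.s1432 hG M hM z hz hz1 c (mem_inf.2 ⟨pow_mem hb _, hcz⟩)
          (fun e => hp.one_lt.ne (by rw [← hco, e, orderOf_one]))
          (fun r hr hd' => (Nat.prime_dvd_prime_iff_eq hr hp).1 (hco ▸ hd') ▸ hpσ) with
        ⟨h, -⟩ | ⟨h, -⟩
      · have := h p hp (hco ▸ dvd_rfl)
        rw [hκ] at this
        exact this
      · have := h p hp (hco ▸ dvd_rfl)
        rw [hτ] at this
        exact this
    obtain ⟨K, U, hD⟩ := exists_decomposition hU hG hM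
    have hKb : K = ⊥ := by
      by_contra h
      exact Set.not_nonempty_empty (hκ ▸ (K_ne_bot_iff hU hG hM hD.hall).1 h)
    obtain ⟨hy1, hy'⟩ := typeA0_cases hU hG hM hD (hX hy)
    have hyS : y ∈ sigmaCore M := by
      rcases hy' with h | h | ⟨hK1, -⟩
      · exact h
      · obtain ⟨⟨⟨hyM, z, hz, hz1, hyz⟩, -⟩, -⟩ := h
        exact BG13.mem_sigmaCore_of_orderOf hU.bg13 hG hM hyM (hno hz hz1 hyM hyz)
      · exact absurd hKb hK1
    obtain ⟨⟨b, hb⟩, hbo⟩ := exists_prime_orderOf_dvd_card' q h2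
    rw [orderOf_mk] at hbo
    exact hqM (hno hyS hy1 (mem_inf.1 hb).1 (mem_centralizer_singleton_iff.1 (mem_inf.1 hb).2)
      q hq (hbo ▸ dvd_rfl))
  · by_cases hK' : K' = ⊥
    · exact Or.inl ((isOfTypeI_iff hU hG hL hD').2 ⟨hK', hU'⟩)
    · exact Or.inr ((isOfTypeII_iff hU hG hL hD').2 ⟨hK', hU'⟩)
  · obtain ⟨-, ⟨E, -, -, hfr, hker⟩, -⟩ := nonTI_of_typeP_signalizer hU hG hM hxS hx1 hxM hL hxL
      ((K_ne_bot_iff hU hG hL hD'.hall).1 ((isOfTypeII_iff hU hG hL hD').1 hII).1)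
    exact ⟨_, hfr, hker⟩

include hU hG hM in
theorem exists_unique_support {x : G} (hx : x ∈ FT.typeA0 M)
    (hxM : ¬ centralizer ({x} : Set G) ≤ M) :
    x ∈ typeA1 M ∧ ∃! L : Subgroup G, IsCoatom L ∧ centralizer ({x} : Set G) ≤ L := by
  obtain ⟨hxS, hx1⟩ := mem_sigmaCore_of_not_le hU hG hM hx hxM
  obtain ⟨N, hN, huniq, -⟩ := hU.s1375 hG M hM x hxS hx1 hxM
  exact ⟨(typeA1_eq' hU hG hM).symm.subset ⟨hxS, hx1⟩, N, hN, fun L hL => huniq L hL.1 hL.2⟩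

/-! ### Theorem I -/

include hU hG hM in
/-- BG 16.2. -/
theorem typeCore_facts :
    (∀ (p : ℕ), p.Prime → ∀ (P : Sylow p ↥(typeCore M)), (P : Subgroup ↥(typeCore M)) ≠ ⊥ →
        normalizer (((P : Subgroup ↥(typeCore M)).map (typeCore M).subtype : Subgroup G) : Set G) ≤ M) ∧
      (Nat.card (fittingHallOf M)).Coprime (fittingHallOf M).index ∧
      (Nat.card (typeCore M)).Coprime (typeCore M).index := by
  rw [typeCore_eq hU hG hM]
  have hS := sigmaCore_hallOf hU hG hM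
  obtain ⟨-, hhall, -⟩ := Cfsg.Agent.S1350.result hG M hM
  have hcop : (Nat.card (sigmaCore M)).Coprime (sigmaCore M).index :=
    Nat.coprime_of_dvd fun p hp h1 h2 => hhall.2 p hp (hS.2.1 p hp h1) h2
  refine ⟨fun p hp P hP => ?_, ?_, hcop⟩
  · haveI := Fact.mk hp
    have h := sylIn_sylow_map P
    have hd : p ∣ Nat.card (sigmaCore M) :=
      (BG13.dvd_of_pGroup_ne_bot P.isPGroup' hP).trans (card_subgroup_dvd_card _)
    have hpσ := hS.2.1 p hp hd
    have hsyl : SylIn p ((P : Subgroup ↥(sigmaCore M)).map (sigmaCore M).subtype) M := by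
      refine ⟨h.le.trans (sigmaCore_le M), h.isPGroup, fun hd' => ?_⟩
      rw [← relIndex_mul_relIndex _ _ _ h.le (sigmaCore_le M)] at hd'
      rcases hp.dvd_mul.1 hd' with h' | h'
      · exact h.not_dvd h'
      · exact hS.2.2 p hp hpσ h'
    exact ((mem_sigma_iff hsyl).1 hpσ).2
  · rw [← relIndex_mul_index (fittingHallOf_le_sigmaCore hG hM)]
    exact Nat.Coprime.mul_right (fittingHallOf_hall_sigma hG hM)
      (hcop.coprime_dvd_left (card_dvd_of_le (fittingHallOf_le_sigmaCore hG hM)))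

/-! ### Complements -/

include hU hG hM in
/-- Every complement of `M_F` in a subgroup of type I, or in `M'` for type II, is the `U` of a standard
factorisation. -/
theorem exists_decomposition_of_compl {V : Subgroup G}
    (h : (FT.IsOfTypeI M ∧ IsComplIn (fittingHallOf M) V M) ∨
      (IsOfTypeII M ∧ IsComplIn (fittingHallOf M) V ⁅M, M⁆)) :
    ∃ K' : Subgroup G, IsSigmaDecomposition M K' V := by
  obtain ⟨K, U, hD⟩ := exists_decomposition hU hG hM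
  have hc : U ≠ ⊥ ∧ IsComplIn (fittingHallOf M) V (U ⊔ sigmaCore M) := by
    rcases h with ⟨hI, hc⟩ | ⟨hII, hc⟩
    · obtain ⟨hK, hU1⟩ := (isOfTypeI_iff hU hG hM hD).1 hI
      have hE := decomp_compl hU hG hM hD
      rw [hK, bot_sup_eq] at hE
      exact ⟨hU1, (sup_eq_of_isComplIn hE).symm ▸ hc⟩
    · obtain ⟨hK1, hU1⟩ := (isOfTypeII_iff hU hG hM hD).1 hII
      exact ⟨hU1, derived_eq hU hG hM hD hK1 ▸ hc⟩
  obtain ⟨hU1, hc⟩ := hc
  rw [fittingHallOf_eq_of_nilpotent hU hG hM (sigmaCore_nilpotent_of_U hU hG hM hD hU1)] at hc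
  have hle : U ⊔ sigmaCore M ≤ M := sup_le hD.compl.1 (sigmaCore_le M)
  have h2 := card_mul_card_of_isComplIn (sigmaCore_compl hU hG hM hD)
  have hcardV : Nat.card U = Nat.card V :=
    Nat.eq_of_mul_eq_mul_left Nat.card_pos (h2.trans (card_mul_card_of_isComplIn hc).symm)
  have hcop : (Nat.card V).Coprime (V.relIndex (U ⊔ sigmaCore M)) := by
    rw [Nat.eq_of_mul_eq_mul_right (Nat.card_pos (α := V))
      ((relIndex_mul_card_of_le hc.2.1).trans (card_mul_card_of_isComplIn hc).symm), ← hcardV]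
    exact coprime_U_sigmaCore hU hG hM hD
  obtain ⟨m, hm, he⟩ := exists_conj_eq_of_card (minSimple_solvable hG (ne_top_of_le_maximal hM hle))
    le_sup_left hc.2.1 hcardV hcop
  exact ⟨_, he ▸ decomp_cj hD (hle hm)⟩

include hU hG hM in
/-- BG 16.5. -/
theorem compl_facts {V : Subgroup G}
    (h : (FT.IsOfTypeI M ∧ IsComplIn (fittingHallOf M) V M) ∨
      (IsOfTypeII M ∧ IsComplIn (fittingHallOf M) V ⁅M, M⁆)) :
    (∀ (p : ℕ), p.Prime → ∀ P : Sylow p V, IsMulCommutative (P : Subgroup V) ∧ PRankLE p 2 (P : Subgroup V)) ∧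
      (∀ X : Set G, X ⊆ (V : Set G) \ {1} → X.Nonempty → fittingHallOf M ⊓ centralizer X ≠ ⊥ →
        centralizer X ≤ M ∧ ∀ L : Subgroup G, IsCoatom L → centralizer X ≤ L → L = M) ∧
      IsTISubset (FT.typeA M \ typeA1 M) := by
  obtain ⟨K, hD⟩ := exists_decomposition_of_compl hU hG hM h
  refine ⟨fun p hp P => ?_, fun X hX hne hc => ?_, ?_⟩
  · haveI := Fact.mk hp
    obtain ⟨h1, h2⟩ := U_sylow hU hG hM hD (map_subtype_le (P : Subgroup V)) (P.isPGroup'.map _)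
    refine ⟨?_, CfsgLib.Base.pRankLE_of_injective
      ((P : Subgroup V).equivMapOfInjective V.subtype V.subtype_injective).toMonoidHom
      (MulEquiv.injective _) h2⟩
    exact ⟨⟨fun a b => ((P : Subgroup V).equivMapOfInjective V.subtype V.subtype_injective).injective
      (by rw [map_mul, map_mul]; exact h1.is_comm.comm _ _)⟩⟩
  · have hXV : closure X ≤ V := (closure_le _).2 fun a ha => (hX ha).1
    obtain ⟨a, ha⟩ := hne
    have hXne : closure X ≠ ⊥ := fun e => (hX ha).2 (mem_bot.1 (e ▸ subset_closure ha))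
    rw [← centralizer_closure]
    refine (U_subgroup_unique hU hG hM hD hXV hXne fun e => hc (le_bot_iff.1 ?_)).2
    rw [← e, centralizer_closure]
    exact inf_le_inf_right _ (fittingHallOf_le_sigmaCore hG hM)
  · rw [typeA_diff_eq hU hG hM hD]
    exact isTISubset_sigmaA hU hG hM hD

/-! ### Theorem I, the pair `S`, `T` -/

include hU hG hM in
theorem typeP_split (hD : IsSigmaDecomposition M K U) (hK1 : K ≠ ⊥) :
    IsOfTypeII M ∨ IsOfTypeIII M ∨ IsOfTypeIV M ∨ IsOfTypeV M := by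
  by_cases hU1 : U = ⊥
  · by_cases hH : fittingHallOf M = sigmaCore M
    · exact Or.inr (Or.inr (Or.inr ((isOfTypeV_iff hU hG hM hD).2 ⟨hK1, hU1, hH⟩)))
    · rcases (isOfTypeIII_or_IV_iff hU hG hM hD).2 ⟨hK1, hU1, hH⟩ with h | h
      exacts [Or.inr (Or.inl h), Or.inr (Or.inr (Or.inl h))]
  · exact Or.inl ((isOfTypeII_iff hU hG hM hD).2 ⟨hK1, hU1⟩)

include hU hG in
/-- BG Theorem I. -/
theorem type_alternative :
    (∀ M : Subgroup G, IsCoatom M → FT.IsOfTypeI M) ∨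
      ∃ W₁ W₂ S T : Subgroup G, IsSelfNormalizingCyclic W₁ W₂ ∧ IsCoatom S ∧ IsCoatom T ∧
        IsComplIn ⁅S, S⁆ W₁ S ∧ IsComplIn ⁅T, T⁆ W₂ T ∧ S ⊓ T = W₁ ⊔ W₂ ∧
        (IsOfTypeII S ∨ IsOfTypeII T) ∧
        (IsOfTypeII S ∨ IsOfTypeIII S ∨ IsOfTypeIV S ∨ IsOfTypeV S) ∧
        (IsOfTypeII T ∨ IsOfTypeIII T ∨ IsOfTypeIV T ∨ IsOfTypeV T) ∧
        ∀ M : Subgroup G, IsCoatom M → FT.IsOfTypeI M ∨ ∃ g : G,
          M = S.map (MulAut.conj g).toMonoidHom ∨ M = T.map (MulAut.conj g).toMonoidHom := by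
  refine or_iff_not_imp_left.2 fun hall => ?_
  push Not at hall
  obtain ⟨S, hS, hSI⟩ := hall
  obtain ⟨K, U, hD⟩ := exists_decomposition hU hG hS
  have hK1 : K ≠ ⊥ := fun h =>
    hSI ((isOfTypeI_iff hU hG hS hD).2 ⟨h, fun e => K_ne_bot_of_U_bot hU hG hS hD e h⟩)
  obtain ⟨T, ⟨hT, hst, hhall⟩, -⟩ := hU.s1366 hG S hS K U hD hK1
  obtain ⟨Ustar, hDs⟩ := exists_decomposition_of_hall hU hG hT (cstar_cyclic hU hG hS hD hK1) hhall
  have hC1 := cstar_ne_bot hU hG hS hD.hall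
  refine ⟨K, cstar S K, S, T, isSelfNormalizingCyclic hU hG hS hD hK1, hS, hT,
    derived_compl hU hG hS hD hK1, derived_compl hU hG hT hDs hC1,
    (hU.s1368 hG S hS K U hD hK1 T hT hst hhall).1, ?_, typeP_split hU hG hS hD hK1,
    typeP_split hU hG hT hDs hC1, fun M hM => ?_⟩
  · rcases (hU.s1369 hG S hS K U hD hK1 T hT hst hhall).1 with h | h
    · exact Or.inl ((isOfTypeII_iff hU hG hS hD).2 ⟨hK1, h⟩)
    · exact Or.inr ((isOfTypeII_iff hU hG hT hDs).2 ⟨hC1, h Ustar hDs⟩)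
  · obtain ⟨K', U', hD'⟩ := exists_decomposition hU hG hM
    by_cases hK' : K' = ⊥
    · exact Or.inl ((isOfTypeI_iff hU hG hM hD').2
        ⟨hK', fun e => K_ne_bot_of_U_bot hU hG hM hD' e hK'⟩)
    · exact Or.inr ((hU.s1369 hG S hS K U hD hK1 T hT hst hhall).2 M hM
        ((K_ne_bot_iff hU hG hM hD'.hall).1 hK'))

end CfsgLib.FT.BG16
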