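import Cfsg.Agent.Lib.FT.BG16.TypeData
import Cfsg.Agent.Lib.FT.TypeDefs

/-!
BG Theorem II: the five types of maximal subgroups.
-/

set_option autoImplicit false
set_option linter.style.haveILetI false

universe u

open Cfsg CfsgLib.OddOrder CfsgLib.Techniques Subgroup
open CfsgLib.FT.BG15
open scoped commutatorElement

namespace CfsgLib.FT.BG16

variable {G : Type u} [Group G] [Finite G]

/-- No group has both Frobenius type and type P. -/
theorem not_typeF_of_typeP {M W₁ V W₂ : Subgroup G} (hP : IsTypePWith M W₁ V W₂)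
    (hF : IsOfTypeF M) : False := by
  obtain ⟨hs, -, -, -, U, -, hUc, -, U₀, hU₀, hexp, hreg⟩ := hF
  haveI := hs
  obtain ⟨r, hr, hd⟩ := Nat.exists_prime_and_dvd (n := Nat.card W₁)
    fun e => hP.W₁_ne (eq_bot_of_card_eq W₁ e)
  haveI := Fact.mk hr
  have hWM := hP.W₁_compl.2.1
  have hrH : ¬ r ∣ Nat.card (fittingHallOf M) := fun h => by
    refine hr.not_dvd_one (hP.W₁_hall.gcd_eq_one ▸ Nat.dvd_gcd hd ?_)
    have h1 : W₁.relIndex M = Nat.card ↥⁅M, M⁆ :=
      Nat.eq_of_mul_eq_mul_right (Nat.card_pos (α := W₁))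
        ((relIndex_mul_card_of_le hWM).trans (card_mul_card_of_isComplIn hP.W₁_compl).symm)
    exact h1 ▸ h.trans (card_dvd_of_le hP.U_compl.1)
  have hrU : r ∣ Nat.card U := by
    have h1 : r ∣ Nat.card M := hd.trans (card_dvd_of_le hWM)
    rw [← hUc.card_mul_card] at h1
    refine (hr.dvd_mul.1 h1).resolve_left fun h => hrH ?_
    rwa [fittingHallOf, CfsgLib.Base.card_map_subtype]
  obtain ⟨x, hx⟩ := exists_prime_orderOf_dvd_card' r hrU
  have hr0 : r ∣ Nat.card U₀ :=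
    (hx ▸ Monoid.order_dvd_exponent x).trans (hexp.symm.dvd.trans Group.exponent_dvd_nat_card)
  obtain ⟨⟨w, hw⟩, hwo⟩ := exists_prime_orderOf_dvd_card' r hr0
  rw [orderOf_mk] at hwo
  have hw1 : w ≠ 1 := fun e => hr.one_lt.ne (by rw [← hwo, e, orderOf_one])
  have hπ : IsPiHallOf {p | p.Prime ∧ p ∣ Nat.card W₁} W₁ M :=
    ⟨hWM, fun p hp hd => ⟨hp, hd⟩,
      fun p hp hπ hd => hp.not_dvd_one (hP.W₁_hall.gcd_eq_one ▸ Nat.dvd_gcd hπ.2 hd)⟩
  obtain ⟨g, hg⟩ := (CfsgLib.Coprime.hallD_of_solvable (G := M)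
    {p | p.Prime ∧ p ∣ Nat.card W₁}).conj_le (U := zpowers w) (H := W₁.subgroupOf M)
    (fun q hq hd' => by
      rw [Nat.card_zpowers, hwo] at hd'
      exact ⟨hq, (Nat.prime_dvd_prime_iff_eq hq hr).1 hd' ▸ hd⟩)
    (CfsgLib.Coprime.piHallOf_iff.1 hπ).2
  have hgw : (g : G) * w * (g : G)⁻¹ ∈ W₁ :=
    mem_subgroupOf.1 (hg (Subgroup.smul_mem_pointwise_smul w (MulAut.conj g) _ (mem_zpowers w)))
  obtain ⟨⟨c, hc⟩, hc1⟩ := W₂.ne_bot_iff_exists_ne_one.1 hP.selfNormalizing.2.1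
  have hcw := hc
  rw [← hP.W₂_centralizer _ hgw fun e => hw1 (Subtype.ext (conj_eq_one_iff.1 e))] at hcw
  obtain ⟨y, hy, hye⟩ := (hP.W₂_le hc).1
  refine hc1 (Subtype.ext ?_)
  have h1 : g⁻¹ * y * g⁻¹⁻¹ ∈ Cfsg.fittingHall ↥M := (fittingHall_normal M).conj_mem y hy g⁻¹
  rw [inv_inv] at h1
  have h2 : w * (g⁻¹ * y * g) = g⁻¹ * y * g * w := by
    have h := mem_centralizer_singleton_iff.1 (mem_inf.1 hcw).2
    rw [← hye] at h
    have h' : y * (g * w * g⁻¹) = g * w * g⁻¹ * y := Subtype.ext h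
    calc w * (g⁻¹ * y * g) = g⁻¹ * (g * w * g⁻¹ * y) * g := by group
      _ = g⁻¹ * y * g * w := by rw [← h']; group
  have h3 := hreg w hw hw1 _ h1 h2
  have h4 : y = 1 := by
    rw [show y = g * (g⁻¹ * y * g) * g⁻¹ by group, h3, mul_one, mul_inv_cancel]
  show c = 1
  rw [← hye, h4, map_one]

variable (hU : BG15.Upstream.{u}) (hG : IsMinSimpleOddOrder G) {M : Subgroup G} (hM : IsCoatom M)
variable {K U : Subgroup G}

/-! ### Frobenius type -/

include hU hG hM in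
theorem fittingHallOf_sup (hD : IsSigmaDecomposition M K U) (hn : Group.IsNilpotent (sigmaCore M)) :
    fittingHallOf (U ⊔ sigmaCore M) = sigmaCore M := by
  set X := U ⊔ sigmaCore M with hX
  have hXM : X ≤ M := sup_le hD.compl.1 (sigmaCore_le M)
  have hSX : sigmaCore M ≤ X := le_sup_right
  have hcard := card_U_sup_sigmaCore hU hG hM hD
  have hidx : (sigmaCore M).relIndex X = Nat.card U :=
    Nat.eq_of_mul_eq_mul_right (Nat.card_pos (α := sigmaCore M))
      ((relIndex_mul_card_of_le hSX).trans hcard)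
  haveI : ((sigmaCore M).subgroupOf X).Normal :=
    normal_subgroupOf_of_le_normalizer (hXM.trans (le_normalizer_sigmaCore M))
  have hle : sigmaCore M ≤ fittingHallOf X := by
    rw [← map_subgroupOf_eq_of_le hSX]
    refine map_mono (le_fittingHall
      (haveI := hn; Group.nilpotent_of_mulEquiv (subgroupOfEquivOfLe hSX).symm) ?_)
    rw [Nat.card_congr (subgroupOfEquivOfLe hSX).toEquiv]
    exact (hidx.symm ▸ (coprime_U_sigmaCore hU hG hM hD).symm :)
  refine le_antisymm ?_ hle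
  by_contra hnle
  obtain ⟨r, hr, hrd, hrσ⟩ : ∃ r, r.Prime ∧ r ∣ Nat.card (fittingHallOf X) ∧ r ∉ sigma M := by
    by_contra h
    push Not at h
    exact hnle (BG13.le_of_normal_hall (le_normalizer_sigmaCore M) (sigmaCore_hallOf hU hG hM)
      ((fittingHallOf_le X).trans hXM) fun p hp hd => h p hp hd)
  haveI := Fact.mk hr
  obtain ⟨U₀, hU₀, hexp, hreg⟩ := exists_regular_subgroup hU hG hM hD
  have hrU : r ∣ Nat.card U := by
    have h := hrd.trans (card_dvd_of_le (fittingHallOf_le X))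
    rw [hcard] at h
    exact (hr.dvd_mul.1 h).resolve_right fun h' => hrσ ((sigmaCore_hallOf hU hG hM).2.1 r hr h')
  obtain ⟨x, hx⟩ := exists_prime_orderOf_dvd_card' r hrU
  have hr0 : r ∣ Nat.card U₀ :=
    (hx ▸ Monoid.order_dvd_exponent x).trans (hexp.symm.dvd.trans Group.exponent_dvd_nat_card)
  obtain ⟨⟨w, hw⟩, hwo⟩ := exists_prime_orderOf_dvd_card' r hr0
  rw [orderOf_mk] at hwo
  have hwF : w ∈ fittingHallOf X :=
    BG13.le_of_normal_hall (le_normalizer_fittingHallOf X) (fittingHallOf_hall X)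
      (zpowers_le.2 (mem_sup_left (hU₀ hw))) (fun p hp hd => ⟨hp, by
        rw [Nat.card_zpowers, hwo] at hd
        exact (Nat.prime_dvd_prime_iff_eq hp hr).1 hd ▸ hrd⟩) (mem_zpowers w)
  refine sigmaCore_ne_bot' hU hG hM (le_bot_iff.1 fun s hs => ?_)
  refine (hreg w hw fun e => hr.one_lt.ne (by rw [← hwo, e, orderOf_one])).le (mem_inf.2 ⟨hs, ?_⟩)
  refine mem_centralizer_singleton_iff.2 (commute_of_isNilpotent (isNilpotent_fittingHallOf X)
    (hle hs) hwF (Nat.coprime_of_dvd fun p hp h1 h2 => ?_)).eq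
  rw [hwo] at h2
  exact hrσ ((Nat.prime_dvd_prime_iff_eq hp hr).1 h2 ▸ (sigmaCore_hallOf hU hG hM).2.1 p hp
    (h1.trans (Subgroup.orderOf_dvd_natCard _ hs)))

include hU hG hM in
/-- `U M_σ` has Frobenius type when `U ≠ 1`. -/
theorem isOfTypeF_sup (hD : IsSigmaDecomposition M K U) (hU1 : U ≠ ⊥)
    (hA : ∃ A : Subgroup G, A ≤ U ∧ U ≤ normalizer (A : Set G) ∧ IsMulCommutative A ∧
      ∀ x ∈ sigmaCore M, x ≠ 1 → U ⊓ centralizer ({x} : Set G) ≤ A) :
    IsOfTypeF ↥(U ⊔ sigmaCore M) := by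
  have hn := sigmaCore_nilpotent_of_U hU hG hM hD hU1
  set X := U ⊔ sigmaCore M with hX
  have hXM : X ≤ M := sup_le hD.compl.1 (sigmaCore_le M)
  have hFX := fittingHallOf_sup hU hG hM hD hn
  have hSX : sigmaCore M ≤ X := le_sup_right
  have hUX : U ≤ X := le_sup_left
  have he : Cfsg.fittingHall ↥X = (sigmaCore M).subgroupOf X :=
    map_injective X.subtype_injective (hFX.trans (map_subgroupOf_eq_of_le hSX).symm)
  obtain ⟨U₀, hU₀, hexp, hreg⟩ := exists_regular_subgroup hU hG hM hD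
  obtain ⟨A, hAU, hAn, hAc, hAx⟩ := hA
  have hmem : ∀ x : X, x ∈ Cfsg.fittingHall ↥X → (x : G) ∈ sigmaCore M := fun x hx =>
    mem_subgroupOf.1 (he ▸ hx)
  refine ⟨minSimple_solvable hG (ne_top_of_le_maximal hM hXM),
    (maximal_odd hG M).of_dvd_nat (card_dvd_of_le hXM), fun e => sigmaCore_ne_bot' hU hG hM ?_,
    fun e => hU1 ?_, U.subgroupOf X, fun e => hU1 ?_, ?_,
    ⟨A.subgroupOf X, fun a ha => mem_subgroupOf.2 (hAU (mem_subgroupOf.1 ha)), ?_, ?_, ?_⟩,
    ⟨U₀.subgroupOf X, fun a ha => mem_subgroupOf.2 (hU₀ (mem_subgroupOf.1 ha)), ?_, ?_⟩⟩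
  · rw [← hFX, fittingHallOf, e, Subgroup.map_bot]
  · refine le_bot_iff.1 (fun u hu => (sigmaCore_compl hU hG hM hD).2.2.1.le (mem_inf.2 ⟨?_, hu⟩))
    exact hmem ⟨u, hUX hu⟩ (e ▸ mem_top _)
  · rw [← map_subgroupOf_eq_of_le hUX, e, Subgroup.map_bot]
  · rw [he]
    refine isComplement'_of_card_mul_and_disjoint ?_ (disjoint_iff.2 (le_bot_iff.1 fun a ha =>
      mem_bot.2 (Subtype.ext (mem_bot.1 ((sigmaCore_compl hU hG hM hD).2.2.1.le
        (mem_inf.2 ⟨mem_subgroupOf.1 (mem_inf.1 ha).1, mem_subgroupOf.1 (mem_inf.1 ha).2⟩))))))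
    rw [Nat.card_congr (subgroupOfEquivOfLe hSX).toEquiv,
      Nat.card_congr (subgroupOfEquivOfLe hUX).toEquiv, card_U_sup_sigmaCore hU hG hM hD, mul_comm]
  · intro u hu
    refine mem_normalizer_iff.2 fun a => ?_
    rw [mem_subgroupOf, mem_subgroupOf]
    exact mem_normalizer_iff.1 (hAn (mem_subgroupOf.1 hu)) a
  · exact ⟨⟨fun a b => Subtype.ext (Subtype.ext (congrArg Subtype.val (hAc.is_comm.comm
      ⟨((a : X) : G), mem_subgroupOf.1 a.2⟩ ⟨((b : X) : G), mem_subgroupOf.1 b.2⟩) :))⟩⟩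
  · intro x hx hx1 a ha
    refine mem_subgroupOf.2 (hAx x (hmem x hx) (fun e => hx1 (Subtype.ext e))
      (mem_inf.2 ⟨mem_subgroupOf.1 (mem_inf.1 ha).1, mem_centralizer_singleton_iff.2 ?_⟩))
    exact congrArg Subtype.val (mem_centralizer_singleton_iff.1 (mem_inf.1 ha).2)
  · rw [Monoid.exponent_eq_of_mulEquiv (subgroupOfEquivOfLe (hU₀.trans hUX)), hexp,
      Monoid.exponent_eq_of_mulEquiv (subgroupOfEquivOfLe hUX)]
  · intro w hw hw1 x hx hwx
    refine Subtype.ext (mem_bot.1 ((hreg w (mem_subgroupOf.1 hw) fun e => hw1 (Subtype.ext e)).le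
      (mem_inf.2 ⟨hmem x hx, mem_centralizer_singleton_iff.2 ?_⟩)))
    exact (congrArg Subtype.val hwx).symm

include hU hG hM in
theorem isOfTypeF_of_K_bot (hD : IsSigmaDecomposition M K U) (hK : K = ⊥) : IsOfTypeF M := by
  have hU1 : U ≠ ⊥ := fun e => K_ne_bot_of_U_bot hU hG hM hD e hK
  have hE := decomp_compl hU hG hM hD
  rw [hK, bot_sup_eq] at hE
  have hκ : ∀ q, q ∉ kappa M := fun q hq => (K_ne_bot_iff hU hG hM hD.hall).2 ⟨q, hq⟩ hK
  have h := isOfTypeF_sup hU hG hM hD hU1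
    (hU.s1421 hG M hM U hE fun e he he1 hτ => regular_of_tau13 hU hG hM hκ hE he he1 hτ).1
  rwa [sup_eq_of_isComplIn hE] at h

include hU hG hM in
theorem K_ne_bot_of_typeP (hD : IsSigmaDecomposition M K U) {W₁ V W₂ : Subgroup G}
    (hP : IsTypePWith M W₁ V W₂) : K ≠ ⊥ := fun h =>
  not_typeF_of_typeP hP (isOfTypeF_of_K_bot hU hG hM hD h)

/-! ### The alternatives -/

include hU hG hM in
theorem isTISubset_fittingHallOf_of_forall (h : ∀ g : G, g ∉ M → fitMeet M g = ⊥) :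
    IsTISubset (fittingHallOf M : Set G) := by
  intro g hg x hx hgx
  refine isTISubset_fittingOf hU hG hM h g ?_ x (fittingHallOf_le_fittingOf M hx)
    (fittingHallOf_le_fittingOf M hgx)
  intro hg'
  refine hg ((?_ : M ≤ _) ?_)
  · exact le_normalizer_fittingHallOf M
  · rwa [normalizer_eq_maximal hG hM (fittingOf_le M)
      (fun e => fittingHallOf_ne_bot hU hG hM (le_bot_iff.1 (e ▸ fittingHallOf_le_fittingOf M)))
      (le_normalizer_fittingOf M)] at hg'

omit hU hG hM in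
theorem dvd_card_of_pCore {p : ℕ} (hp : p.Prime)
    (h : ¬ IsMulCommutative (pCore p ↥(fittingHallOf M))) : p ∣ Nat.card (fittingHallOf M) := by
  haveI := Fact.mk hp
  by_contra hd
  refine h ⟨⟨fun a b => ?_⟩⟩
  obtain ⟨n, hn⟩ := IsPGroup.iff_card.1 (isPGroup_hallPart (p := p) (fittingHallOf M))
  have h1 : Nat.card ↥(pCore p ↥(fittingHallOf M)) = 1 := by
    rw [card_pCore_eq, hn]
    rcases Nat.eq_zero_or_pos n with rfl | h0
    · rw [pow_zero]
    · refine absurd ((dvd_pow_self p h0.ne').trans ?_) hd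
      rw [← hn]
      exact card_dvd_of_le (piCoreOf_le _ _)
  haveI := (Nat.card_eq_one_iff_unique.1 h1).1
  exact Subsingleton.elim _ _

include hU hG hM in
/-- BG Theorem II for type I. -/
theorem isOfTypeI_iff (hD : IsSigmaDecomposition M K U) : FT.IsOfTypeI M ↔ (K = ⊥ ∧ U ≠ ⊥) := by
  constructor
  · rintro ⟨hF, -⟩
    have hK : K = ⊥ := by
      by_contra hK1
      obtain ⟨U₀, hP⟩ := exists_isTypePWith hU hG hM hD hK1
      exact not_typeF_of_typeP hP hF
    exact ⟨hK, fun e => K_ne_bot_of_U_bot hU hG hM hD e hK⟩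
  rintro ⟨hK, -⟩
  refine ⟨isOfTypeF_of_K_bot hU hG hM hD hK, ?_⟩
  by_cases h : ∀ g : G, g ∉ M → fitMeet M g = ⊥
  · exact Or.inl (isTISubset_fittingHallOf_of_forall hU hG hM h)
  push Not at h
  obtain ⟨g, hg, hne⟩ := h
  rcases meet_cases hU hG hM hg hne hD with ⟨-, h1, h2, h3⟩ | ⟨p, hp, -, -, -, hna, hc, hexp⟩ |
    ⟨p, -, -, -, -, -, -, -, hK1, -⟩
  · exact Or.inr (Or.inl ⟨h1, h2, h3⟩)
  · exact Or.inr (Or.inr ⟨hexp, p, hp, dvd_card_of_pCore hp hna, hc⟩)
  · exact absurd hK hK1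

include hU hG hM in
theorem card_K_dvd_exponent (hD : IsSigmaDecomposition M K U) :
    Nat.card K ∣ Monoid.exponent (↥M ⧸ Cfsg.fittingHall ↥M) := by
  obtain ⟨k, hk⟩ := hD.cyclic.exists_generator
  rw [← orderOf_eq_card_of_forall_mem_zpowers hk]
  let φ : K →* ↥M ⧸ Cfsg.fittingHall ↥M := (fittingQuot M).comp (inclusion hD.hall.1)
  have hinj : Function.Injective φ := by
    rw [← MonoidHom.ker_eq_bot_iff, eq_bot_iff]
    intro d hd
    refine mem_bot.2 (Subtype.ext (mem_bot.1 ((K_inf_sigmaCore hU hG hM hD.hall).le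
      (mem_inf.2 ⟨d.2, fittingHallOf_le_sigmaCore hG hM ?_⟩))))
    exact eq_one_iff_mem_fittingHallOf.1 (MonoidHom.mem_ker.1 hd)
  rw [← orderOf_injective φ hinj k]
  exact Monoid.order_dvd_exponent _

include hU hG hM in
theorem isOfTypeV_of (hD : IsSigmaDecomposition M K U) (hK1 : K ≠ ⊥) (hUb : U = ⊥)
    (hH : fittingHallOf M = sigmaCore M) : IsOfTypeV M := by
  refine ⟨K, U, cstar M K, isTypePWith_of_eq hU hG hM hD hK1 hH, hUb, ?_⟩
  by_cases h : ∀ g : G, g ∉ M → fitMeet M g = ⊥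
  · exact Or.inl (isTISubset_fittingHallOf_of_forall hU hG hM h)
  push Not at h
  obtain ⟨g, hg, hne⟩ := h
  rcases meet_cases hU hG hM hg hne hD with ⟨hK, -⟩ | ⟨p, hp, -, -, -, hna, hc, hexp⟩ |
    ⟨p, hp, -, -, -, hc, h3, hna, -, -, hdvd⟩
  · exact absurd hK hK1
  · exact Or.inr (Or.inl ⟨p, hp, dvd_card_of_pCore hp hna,
      (card_K_dvd_exponent hU hG hM hD).trans (hexp p hp (dvd_card_of_pCore hp hna)), hc⟩)
  · refine Or.inr (Or.inr ⟨p, hp, dvd_card_of_pCore hp hna, h3, ?_, hc⟩)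
    have hKc : IsComplIn K (fittingHallOf M) M := by
      have h := decomp_compl hU hG hM hD
      rwa [hUb, sup_bot_eq, ← hH] at h
    have h1 : (fittingHallOf M).relIndex M = Nat.card K := Nat.eq_of_mul_eq_mul_right Nat.card_pos
      ((relIndex_mul_card_of_le (fittingHallOf_le M)).trans (card_mul_card_of_isComplIn hKc).symm)
    exact h1 ▸ hdvd

include hU hG hM in
/-- BG Theorem II for type II. -/
theorem isOfTypeII_iff (hD : IsSigmaDecomposition M K U) : IsOfTypeII M ↔ (K ≠ ⊥ ∧ U ≠ ⊥) := by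
  constructor
  · rintro ⟨W₁, V, W₂, hP, hV, -, -, -, hN, -⟩
    refine ⟨K_ne_bot_of_typeP hU hG hM hD hP, fun hUb => ?_⟩
    have hder := derived_eq_sigmaCore hU hG hM hD hUb
    by_cases hH : fittingHallOf M = sigmaCore M
    · exact hV (le_bot_iff.1 ((le_inf (hP.U_compl.2.1.trans (le_of_eq (hder.trans hH.symm))) le_rfl).trans
        hP.U_compl.2.2.1.le))
    · exact hN (normalizer_fcore_compl_le hU hG hM hH (hder ▸ hP.U_compl))
  rintro ⟨hK1, hU1⟩
  have hH := fittingHallOf_eq_of_nilpotent hU hG hM (sigmaCore_nilpotent_of_U hU hG hM hD hU1)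
  have hder := derived_eq hU hG hM hD hK1
  refine ⟨K, U, cstar M K, isTypePWith_of_eq hU hG hM hD hK1 hH, hU1,
    (card_K_prime hU hG hM hD hK1 hU1).1, isTISubset_fittingOf_of_P2 hU hG hM hD hK1 hU1,
    U_comm hU hG hM hD hK1, normalizer_U_not_le hU hG hM hD hK1, ?_, ?_⟩
  · rw [hder]
    exact isOfTypeF_sup hU hG hM hD hU1
      ⟨U, le_rfl, le_normalizer, U_comm hU hG hM hD hK1, fun _ _ _ => inf_le_left⟩
  · rw [hder, fittingHallOf_sup hU hG hM hD (sigmaCore_nilpotent_of_U hU hG hM hD hU1), hH]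

include hU hG hM in
theorem of_typeP_normalizer_le (hD : IsSigmaDecomposition M K U) {W₁ V W₂ : Subgroup G}
    (hP : IsTypePWith M W₁ V W₂) (hV : V ≠ ⊥) (hN : normalizer (V : Set G) ≤ M) :
    K ≠ ⊥ ∧ U = ⊥ ∧ fittingHallOf M ≠ sigmaCore M := by
  have hK1 := K_ne_bot_of_typeP hU hG hM hD hP
  have hUb : U = ⊥ := by
    by_contra hU1
    have hH := fittingHallOf_eq_of_nilpotent hU hG hM (sigmaCore_nilpotent_of_U hU hG hM hD hU1)
    have hc := hP.U_compl
    rw [hH, derived_eq hU hG hM hD hK1] at hc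
    have hle : U ⊔ sigmaCore M ≤ M := sup_le hD.compl.1 (sigmaCore_le M)
    have h1 := card_mul_card_of_isComplIn hc
    have h2 := card_mul_card_of_isComplIn (sigmaCore_compl hU hG hM hD)
    have hcop : (Nat.card U).Coprime (U.relIndex (U ⊔ sigmaCore M)) := by
      rw [Nat.eq_of_mul_eq_mul_right (Nat.card_pos (α := U))
        ((relIndex_mul_card_of_le (le_sup_left : U ≤ U ⊔ sigmaCore M)).trans h2.symm)]
      exact coprime_U_sigmaCore hU hG hM hD
    obtain ⟨m, hm, he⟩ := exists_conj_eq_of_card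
      (minSimple_solvable hG (ne_top_of_le_maximal hM hle)) hc.2.1 le_sup_left
      (Nat.eq_of_mul_eq_mul_left Nat.card_pos (h1.trans h2.symm)) hcop
    refine normalizer_U_not_le hU hG hM hD hK1 ?_
    rw [← he, ← cj_normalizer]
    exact (cj_mono hN).trans (cj_eq_self_of_mem (hle hm)).le
  refine ⟨hK1, hUb, fun hH => hV ?_⟩
  exact le_bot_iff.1 ((le_inf (hP.U_compl.2.1.trans
    (le_of_eq ((derived_eq_sigmaCore hU hG hM hD hUb).trans hH.symm))) le_rfl).trans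
      hP.U_compl.2.2.1.le)

include hU hG hM in
/-- BG Theorem II for types III and IV. -/
theorem isOfTypeIII_or_IV_iff (hD : IsSigmaDecomposition M K U) :
    (IsOfTypeIII M ∨ IsOfTypeIV M) ↔ (K ≠ ⊥ ∧ U = ⊥ ∧ fittingHallOf M ≠ sigmaCore M) := by
  constructor
  · rintro (⟨W₁, V, W₂, hP, hV, -, -, -, hN⟩ | ⟨W₁, V, W₂, hP, hV, -, -, -, hN⟩) <;>
      exact of_typeP_normalizer_le hU hG hM hD hP hV hN
  rintro ⟨hK1, hUb, hne⟩
  obtain ⟨D, hDc, hKD⟩ := exists_fcore_compl hU hG hM hD.hall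
  obtain ⟨q, Q, hQ⟩ := exists_fcoreData hU hG hM hD hne
  have hP := isTypePWith_of_compl hU hG hM hD hK1 (isNilpotent_fcore_compl hU hG hM hne hDc) hKD
    (by rwa [derived_eq_sigmaCore hU hG hM hD hUb])
  have hne' := fcore_compl_ne_bot hG hM hne hDc
  have hTI := isTISubset_fittingOf_of_ne hU hG hM hne
  have hN := normalizer_fcore_compl_le hU hG hM hne hDc
  by_cases hc : IsMulCommutative D
  · exact Or.inl ⟨_, _, _, hP, hne', hQ.K_prime, hTI, hc, hN⟩
  · exact Or.inr ⟨_, _, _, hP, hne', hQ.K_prime, hTI, hc, hN⟩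

include hU hG hM in
/-- BG Theorem II for type V. -/
theorem isOfTypeV_iff (hD : IsSigmaDecomposition M K U) :
    IsOfTypeV M ↔ (K ≠ ⊥ ∧ U = ⊥ ∧ fittingHallOf M = sigmaCore M) := by
  refine ⟨?_, fun ⟨h1, h2, h3⟩ => isOfTypeV_of hU hG hM hD h1 h2 h3⟩
  rintro ⟨W₁, V, W₂, hP, hV, -⟩
  have hK1 := K_ne_bot_of_typeP hU hG hM hD hP
  have hder : ⁅M, M⁆ ≤ fittingHallOf M := fun a ha => by
    obtain ⟨x, hx, y, hy, rfl⟩ := hP.U_compl.2.2.2 a ha
    rw [hV, mem_bot] at hy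
    rw [hy, mul_one]
    exact hx
  rw [derived_eq hU hG hM hD hK1] at hder
  refine ⟨hK1, le_bot_iff.1 ((le_inf ((le_sup_left.trans hder).trans
    (fittingHallOf_le_sigmaCore hG hM)) le_rfl).trans (sigmaCore_compl hU hG hM hD).2.2.1.le),
    le_antisymm (fittingHallOf_le_sigmaCore hG hM) (le_sup_right.trans hder)⟩

include hU hG hM in
theorem typeCore_eq : typeCore M = sigmaCore M := by
  obtain ⟨K, U, hD⟩ := exists_decomposition hU hG hM
  unfold typeCore
  split_ifs with h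
  · obtain ⟨-, hUb, -⟩ := (isOfTypeIII_or_IV_iff hU hG hM hD).1 h
    exact derived_eq_sigmaCore hU hG hM hD hUb
  · by_contra hne
    exact h ((isOfTypeIII_or_IV_iff hU hG hM hD).2
      ⟨K_ne_bot_of_U_bot hU hG hM hD (U_eq_bot_of_ne hU hG hM hD hne),
        U_eq_bot_of_ne hU hG hM hD hne, hne⟩)

end CfsgLib.FT.BG16
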